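import Cfsg.Agent.Fus.Syl
import Cfsg.Agent.QP.Unip

/-! Full flags, regular nilpotent endomorphisms, and the linear configuration `Lin`. -/

set_option autoImplicit false
set_option linter.unusedSectionVars false
set_option linter.unusedVariables false

namespace CF.Mg

open Module Polynomial CF.Fus

section lin
variable {k V : Type*} [Field k] [AddCommGroup V] [Module k V] {F : ℕ → Submodule k V} {d i j m n : ℕ}
  {f g N : End k V} {u v w : V}

/-- endomorphisms raising the flag `F` by `m` -/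
def Dg (F : ℕ → Submodule k V) (m : ℕ) : Submodule k (End k V) where
  carrier := {f | ∀ j, ∀ v ∈ F j, f v ∈ F (j + m)}
  add_mem' := fun h h' j v hv => add_mem (h j v hv) (h' j v hv)
  zero_mem' := fun _ _ _ => zero_mem _
  smul_mem' := fun c _ h j v hv => Submodule.smul_mem _ c (h j v hv)

/-- a full flag of length `d` -/
structure Fg (d : ℕ) (F : ℕ → Submodule k V) : Prop where
  top : F 0 = ⊤
  bot : F d = ⊥
  anti : Antitone F
  st : ∀ j < d, ∃ u ∈ F j, u ∉ F (j + 1) ∧ ∀ w ∈ F j, ∃ c : k, w - c • u ∈ F (j + 1)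

/-- a regular nilpotent endomorphism with flag `F` -/
structure Rg (d : ℕ) (F : ℕ → Submodule k V) (N : End k V) : Prop where
  dg : N ∈ Dg F 1
  inj : ∀ j, j + 2 ≤ d → ∀ v ∈ F j, N v ∈ F (j + 2) → v ∈ F (j + 1)

theorem mem_Dg : f ∈ Dg F m ↔ ∀ j, ∀ v ∈ F j, f v ∈ F (j + m) := Iff.rfl

theorem Dg.app (h : f ∈ Dg F m) (hv : v ∈ F j) : f v ∈ F (j + m) := h j v hv

theorem Dg.mul (h : f ∈ Dg F m) (h' : g ∈ Dg F n) : f * g ∈ Dg F (m + n) := fun j v hv => by
  rw [add_comm m, ← add_assoc]; exact h _ _ (h' j v hv)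

theorem Dg.one : (1 : End k V) ∈ Dg F 0 := fun _ _ h => h

theorem Dg.mul0 (h : f ∈ Dg F m) (h' : g ∈ Dg F 0) : f * g ∈ Dg F m := Dg.mul h h'

theorem Dg.mul0' (h : f ∈ Dg F 0) (h' : g ∈ Dg F m) : f * g ∈ Dg F m := by simpa using Dg.mul h h'

theorem Dg.pow (h : f ∈ Dg F m) : ∀ n, f ^ n ∈ Dg F (m * n)
  | 0 => by simpa using Dg.one
  | n + 1 => by rw [pow_succ, mul_add_one]; exact Dg.mul (Dg.pow h n) h

theorem Dg.pow1 (h : f ∈ Dg F 1) (n : ℕ) : f ^ n ∈ Dg F n := by simpa using Dg.pow h n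

theorem Dg.aeval (h : f ∈ Dg F 0) (q : k[X]) : aeval f q ∈ Dg F 0 := by
  induction q using Polynomial.induction_on' with
  | add p q hp hq => rw [map_add]; exact add_mem hp hq
  | monomial n c =>
    rw [aeval_monomial, ← Algebra.smul_def]
    exact Submodule.smul_mem _ _ (by simpa using Dg.pow h n)

namespace Fg

theorem le (h : Fg d F) (hv : v ∈ F j) (e : i ≤ j) : v ∈ F i := h.anti e hv

theorem mem0 (h : Fg d F) (v : V) : v ∈ F 0 := h.top ▸ Submodule.mem_top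

theorem eq0 (h : Fg d F) (hv : v ∈ F j) (e : d ≤ j) : v = 0 := by
  simpa [h.bot] using h.le hv e

theorem mono (h : Fg d F) (hf : f ∈ Dg F m) (e : n ≤ m) : f ∈ Dg F n := fun j v hv =>
  h.le (hf j v hv) (by omega)

theorem zero (h : Fg d F) (hf : f ∈ Dg F m) (e : d ≤ m) : f = 0 :=
  LinearMap.ext fun v => h.eq0 (hf 0 v (h.mem0 v)) (by omega)

theorem gen (h : Fg d F) (hu : u ∈ F j) (hu' : u ∉ F (j + 1)) (hw : w ∈ F j) : ∃ c : k, w - c • u ∈ F (j + 1) := by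
  obtain ⟨v, -, -, e⟩ := h.st j (not_le.1 fun c => hu' (h.eq0 hu c ▸ zero_mem _))
  obtain ⟨a, ha⟩ := e u hu
  obtain ⟨b, hb⟩ := e w hw
  have a0 : a ≠ 0 := by rintro rfl; exact hu' (by simpa using ha)
  refine ⟨b / a, ?_⟩
  have := sub_mem hb (Submodule.smul_mem _ (b / a) ha)
  rwa [smul_sub, smul_smul, div_mul_cancel₀ _ a0, sub_sub_sub_cancel_right] at this

theorem lev (h : Fg d F) (hv : v ≠ 0) : ∃ j < d, v ∈ F j ∧ v ∉ F (j + 1) := by
  have : ∀ j, v ∉ F j → ∃ i < j, v ∈ F i ∧ v ∉ F (i + 1) := fun j => by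
    induction j with
    | zero => exact fun c => (c (h.mem0 v)).elim
    | succ j ih =>
      intro c
      by_cases e : v ∈ F j
      · exact ⟨j, by omega, e, c⟩
      · exact (ih e).imp fun i a => ⟨by omega, a.2⟩
  exact this d fun c => hv (h.eq0 c le_rfl)

/-- downward induction along the flag -/
theorem ind (h : Fg d F) {Q : ℕ → Prop} (h1 : ∀ j, d ≤ j → Q j) (h2 : ∀ j < d, Q (j + 1) → Q j) (j : ℕ) : Q j := by
  have : ∀ m j, d ≤ j + m → Q j := fun m => by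
    induction m with
    | zero => exact h1
    | succ m ih => exact fun j e => (le_or_gt d j).elim (h1 j) fun c => h2 j c (ih _ (by omega))
  exact this d j (by omega)

theorem aeval_sub (h : Fg d F) (hN : N ∈ Dg F 1) (q : k[X]) : aeval N q - q.coeff 0 • 1 ∈ Dg F 1 := by
  have a : aeval N q = N * aeval N q.divX + q.coeff 0 • 1 := by
    conv_lhs => rw [← X_mul_divX_add q]
    rw [map_add, map_mul, aeval_X, aeval_C, Algebra.algebraMap_eq_smul_one]
  rw [a, add_sub_cancel_right]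
  exact Dg.mul0 hN (Dg.aeval (h.mono hN (by omega)) _)

theorem nil (h : Fg d F) (hN : N ∈ Dg F 1) : IsNilpotent N := ⟨d, h.zero (Dg.pow1 hN d) le_rfl⟩

theorem unit (h : Fg d F) {c : k} (hc : c ≠ 0) (hf : f - c • 1 ∈ Dg F 1) : IsUnit f := by
  have := (h.nil hf).isUnit_add_right_of_commute (u := c • (1 : End k V))
    (by rw [← Algebra.algebraMap_eq_smul_one]; exact (IsUnit.mk0 c hc).map _)
    (by rw [← Algebra.algebraMap_eq_smul_one]; exact (Algebra.commute_algebraMap_left _ _).symm)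
  rwa [sub_add_cancel] at this

/-- an element `c + (degree one)` preserves levels -/
theorem lev_inj (h : Fg d F) {c : k} (hc : c ≠ 0) (hf : f - c • 1 ∈ Dg F 1) (hv : v ∈ F j) (e : f v ∈ F (j + 1)) :
    v ∈ F (j + 1) := by
  have := sub_mem e (hf j v hv)
  rw [LinearMap.sub_apply, sub_sub_cancel, LinearMap.smul_apply, End.one_apply] at this
  exact (Submodule.smul_mem_iff _ hc).1 this

theorem dg0 (h : Fg d F) {c : k} (hf : f - c • 1 ∈ Dg F 1) : f ∈ Dg F 0 := by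
  simpa using add_mem (h.mono hf (Nat.zero_le 1)) (Submodule.smul_mem _ c Dg.one)

theorem mul_le (h : Fg d F) (e : 1 ≤ m) : Dg F m * Dg F m ≤ Dg F m :=
  Submodule.mul_le.2 fun _ a _ b => h.mono (Dg.mul a b) (by omega)

theorem pow_le (h : Fg d F) : ∀ n, Dg F m ^ n ≤ Dg F (m * n)
  | 0 => by rw [pow_zero, Submodule.one_le]; exact Dg.one
  | n + 1 => by
    rw [pow_succ, mul_add_one]
    exact Submodule.mul_le.2 fun _ a _ b => Dg.mul (pow_le h n a) b

/-- the group `1 + Dg F m` -/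
def U (h : Fg d F) (m : ℕ) (e : 1 ≤ m) : Subgroup (End k V)ˣ :=
  QP.oneAdd (Dg F m) (h.mul_le e) ⟨d, eq_bot_iff.2 fun _ a => h.zero (h.pow_le d a) (Nat.le_mul_of_pos_left d e)⟩

theorem mem_U (h : Fg d F) {e : 1 ≤ m} {x : (End k V)ˣ} : x ∈ h.U m e ↔ x.val - 1 ∈ Dg F m := Iff.rfl

theorem inv_mem (h : Fg d F) (e : 1 ≤ m) {x : (End k V)ˣ} (hx : x.val - 1 ∈ Dg F m) : (x⁻¹).val - 1 ∈ Dg F m :=
  (h.U m e).inv_mem hx

theorem mul_mem (h : Fg d F) (e : 1 ≤ m) {x y : (End k V)ˣ} (hx : x.val - 1 ∈ Dg F m) (hy : y.val - 1 ∈ Dg F m) :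
    (x * y).val - 1 ∈ Dg F m := (h.U m e).mul_mem hx hy

theorem val0 (h : Fg d F) (hf : f - 1 ∈ Dg F 1) : f ∈ Dg F 0 := h.dg0 (c := 1) (by rwa [one_smul])

/-- commutators raise the degree -/
theorem comm (h : Fg d F) {x y : (End k V)ˣ} (e : 1 ≤ m) (e' : 1 ≤ n) (hx : x.val - 1 ∈ Dg F m)
    (hy : y.val - 1 ∈ Dg F n) : (x * y * x⁻¹ * y⁻¹).val - 1 ∈ Dg F (m + n) := by
  have : (x * y * x⁻¹ * y⁻¹).val - 1 =
      ((x.val - 1) * (y.val - 1) - (y.val - 1) * (x.val - 1)) * (x⁻¹).val * (y⁻¹).val := by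
    rw [show (x.val - 1) * (y.val - 1) - (y.val - 1) * (x.val - 1) = x.val * y.val - y.val * x.val by noncomm_ring,
      sub_mul, sub_mul, mul_assoc y.val, Units.mul_inv, mul_one, Units.mul_inv, Units.val_mul, Units.val_mul,
      Units.val_mul]
  rw [this]
  exact Dg.mul0 (Dg.mul0 (sub_mem (Dg.mul hx hy) (add_comm n m ▸ Dg.mul hy hx))
    (h.val0 (h.mono (h.inv_mem e hx) e))) (h.val0 (h.mono (h.inv_mem e' hy) e'))

end Fg

namespace Rg

theorem pow_inj (r : Rg d F N) : ∀ j, i + j < d → v ∈ F i → (N ^ j) v ∈ F (i + j + 1) → v ∈ F (i + 1)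
  | 0, _, _, e => by simpa using e
  | j + 1, a, hv, e => by
    rw [pow_succ', End.mul_apply] at e
    exact pow_inj r j (by omega) hv (r.inj _ (by omega) _ (Dg.pow1 r.dg j _ _ hv) e)

theorem pow_nmem (r : Rg d F N) (h : Fg d F) (e : j < d) : N ^ j ∉ Dg F (j + 1) := fun c => by
  obtain ⟨u, a, b, -⟩ := h.st 0 (by omega)
  exact b (r.pow_inj j (by omega) a (by simpa using c 0 u a))

theorem pow_ne (r : Rg d F N) (h : Fg d F) (e : j < d) : N ^ j ≠ 0 := fun c =>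
  r.pow_nmem h e (c ▸ zero_mem _)

theorem surj (r : Rg d F N) (h : Fg d F) (j : ℕ) : ∀ w ∈ F (j + 1), ∃ v ∈ F j, N v = w := by
  refine h.ind (Q := fun j => ∀ w ∈ F (j + 1), ∃ v ∈ F j, N v = w)
    (fun j e w hw => ⟨0, zero_mem _, by rw [map_zero, h.eq0 hw (by omega)]⟩) (fun j e ih w hw => ?_) j
  rcases (show j + 1 = d ∨ j + 2 ≤ d by omega) with a | a
  · exact ⟨0, zero_mem _, by rw [map_zero, h.eq0 hw a.ge]⟩
  obtain ⟨u, u1, u2, -⟩ := h.st j e
  obtain ⟨c, hc⟩ := h.gen (r.dg j u u1) (fun b => u2 (r.inj j a u u1 b)) hw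
  obtain ⟨v, v1, v2⟩ := ih _ hc
  exact ⟨v + c • u, add_mem (h.le v1 (by omega)) (Submodule.smul_mem _ _ u1), by rw [map_add, map_smul, v2]; abel⟩

theorem surj_pow (r : Rg d F N) (h : Fg d F) : ∀ j, ∀ w ∈ F (i + j), ∃ v ∈ F i, (N ^ j) v = w
  | 0, w, hw => ⟨w, hw, by simp⟩
  | j + 1, w, hw => by
    obtain ⟨u, u1, rfl⟩ := r.surj h (i + j) w hw
    obtain ⟨v, v1, rfl⟩ := surj_pow r h j u u1
    exact ⟨v, v1, by rw [pow_succ', End.mul_apply]⟩

/-- the kernel of `N ^ j` is `F (d - j)` -/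
theorem ker (r : Rg d F N) (h : Fg d F) (e : i + j = d) : (N ^ j) v = 0 ↔ v ∈ F i := by
  refine ⟨fun a => ?_, fun a => h.eq0 (Dg.pow1 r.dg j _ _ a) e.ge⟩
  by_contra c
  obtain ⟨l, -, l1, l2⟩ := h.lev (v := v) (by rintro rfl; exact c (zero_mem _))
  have : l < i := not_le.1 fun b => c (h.le l1 b)
  exact l2 (r.pow_inj j (by omega) l1 (a ▸ zero_mem _))

theorem cyc (r : Rg d F N) (h : Fg d F) : ∃ u : V, ∀ w, ∃ q : k[X], aeval N q u = w := by
  rcases d.eq_zero_or_pos with a | a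
  · exact ⟨0, fun w => ⟨0, by rw [h.eq0 (h.mem0 w) a.le, map_zero]⟩⟩
  obtain ⟨u, u1, u2, -⟩ := h.st 0 a
  refine ⟨u, fun w => h.ind (Q := fun j => ∀ w ∈ F j, ∃ q : k[X], aeval N q u = w)
    (fun j e w hw => ⟨0, by rw [h.eq0 hw e]; simp⟩) (fun j e ih w hw => ?_) 0 w (h.mem0 w)⟩
  obtain ⟨c, hc⟩ := h.gen (u := (N ^ j) u) (by simpa using Dg.pow1 r.dg j 0 u u1)
    (fun b => u2 (r.pow_inj j (by omega) u1 (by simpa using b))) hw
  obtain ⟨q, hq⟩ := ih _ hc
  exact ⟨q + c • X ^ j, by simp [hq]⟩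

theorem comm (r : Rg d F N) (h : Fg d F) (hf : Commute f N) : ∃ q : k[X], f = aeval N q := by
  obtain ⟨u, hu⟩ := r.cyc h
  obtain ⟨q, hq⟩ := hu (f u)
  refine ⟨q, LinearMap.ext fun w => ?_⟩
  obtain ⟨q', rfl⟩ := hu w
  have a : Commute f (aeval N q') := by
    induction q' using Polynomial.induction_on' with
    | add p q hp hq => rw [map_add]; exact hp.add_right hq
    | monomial n c => rw [aeval_monomial]; exact (Algebra.commute_algebraMap_right c f).mul_right (hf.pow_right n)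
  rw [← End.mul_apply, a.eq, End.mul_apply, ← hq, ← End.mul_apply, ← End.mul_apply, ← map_mul, ← map_mul, mul_comm]

theorem ord (r : Rg d F N) (h : Fg d F) (hf : Commute f N) (h0 : f ≠ 0) :
    ∃ m < d, ∃ u : k[X], u.coeff 0 ≠ 0 ∧ f = N ^ m * aeval N u := by
  obtain ⟨q, rfl⟩ := r.comm h hf
  obtain ⟨u, e, hu⟩ := exists_eq_pow_rootMultiplicity_mul_and_not_dvd q (by rintro rfl; exact h0 (map_zero _)) 0
  rw [map_zero, sub_zero] at e hu
  have a : aeval N q = N ^ rootMultiplicity 0 q * aeval N u := by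
    conv_lhs => rw [e]
    rw [map_mul, map_pow, aeval_X]
  refine ⟨_, not_le.1 fun c => h0 ?_, u, fun c => hu (X_dvd_iff.2 c), a⟩
  rw [a, h.zero (Dg.pow1 r.dg _) c, zero_mul]

/-- the exponent in `N ^ m * u` is the degree -/
theorem le_of_dg (r : Rg d F N) (h : Fg d F) (e : m < d) {c : k} (hc : c ≠ 0) (hf : f - c • 1 ∈ Dg F 1)
    (a : N ^ m * f ∈ Dg F n) : n ≤ m := not_lt.1 fun b => by
  obtain ⟨u, u1, u2, -⟩ := h.st 0 (by omega)
  exact u2 (h.lev_inj hc hf u1 (r.pow_inj m (by omega) (h.mem0 _) (h.le (a 0 u u1) (by omega))))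

end Rg
end lin

/-- the linear configuration: `X` irreducible, `P` Sylow in `X` and unitriangular for the full flag `F`,
`s` regular and `z` a nontrivial element of degree at least two -/
structure Lin (p d : ℕ) [Fact p.Prime] {V : Type*} [AddCommGroup V] [Module (ZMod p) V]
    (X P : Subgroup (End (ZMod p) V)ˣ) (F : ℕ → Submodule (ZMod p) V) (s z : (End (ZMod p) V)ˣ) : Prop where
  p5 : 5 ≤ p
  dp : d ≤ p
  fg : Fg d F
  syl : SylIn p P X
  irr : ∀ W : Submodule (ZMod p) V, (∀ g ∈ X, ∀ v ∈ W, g.val v ∈ W) → W = ⊥ ∨ W = ⊤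
  u1 : ∀ x ∈ P, x.val - 1 ∈ Dg F 1
  di : ∀ x ∈ P, x.val - 1 ∈ Dg F 2 ∨ Rg d F (x.val - 1)
  sP : s ∈ P
  rs : Rg d F (s.val - 1)
  zP : z ∈ P
  z1 : z ≠ 1
  z2 : z.val - 1 ∈ Dg F 2
  sz : Commute s z

variable {p d : ℕ} [Fact p.Prime] {V : Type*} [AddCommGroup V] [Module (ZMod p) V]
  {X P : Subgroup (End (ZMod p) V)ˣ} {F : ℕ → Submodule (ZMod p) V} {s x z : (End (ZMod p) V)ˣ}

theorem fin_end [Finite V] : Finite (End (ZMod p) V) := Finite.of_injective _ DFunLike.coe_injective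

theorem Fg.pow_p (h : Fg d F) (dp : d ≤ p) (hx : x.val - 1 ∈ Dg F 1) : x ^ p = 1 := by
  refine Units.ext ?_
  rcases subsingleton_or_nontrivial (End (ZMod p) V) with a | a
  · exact Subsingleton.elim _ _
  haveI : CharP (End (ZMod p) V) p := charP_of_injective_algebraMap (algebraMap (ZMod p) _).injective p
  have := sub_pow_char_of_commute (p := p) (Commute.one_right x.val)
  rw [h.zero (Dg.pow1 hx p) dp, one_pow] at this
  rw [Units.val_pow_eq_pow_val, Units.val_one, ← sub_eq_zero, ← this]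

theorem Lin.memP (h : Lin p d X P F s z) (hx : x ∈ X) (e : x.val - 1 ∈ Dg F 1) : x ∈ P :=
  (h.syl.max (X ⊓ h.fg.U 1 le_rfl) (fun y hy => ⟨h.syl.le hy, h.u1 y hy⟩) inf_le_left
    (isPGroup_iff_mem.2 fun y hy => ⟨1, by rw [pow_one]; exact h.fg.pow_p h.dp hy.2⟩)).le ⟨hx, e⟩

theorem Lin.d3 (h : Lin p d X P F s z) : 3 ≤ d := not_lt.1 fun c =>
  h.z1 (Units.ext (sub_eq_zero.1 (h.fg.zero h.z2 (by omega))))

end CF.Mg
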