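import Cfsg.Agent.Mxc.B
import Cfsg.Agent.Mg.A

/-! Maximal class data, normal essential subgroups, and the module on an elementary abelian section. -/

set_option autoImplicit false
set_option linter.unusedSectionVars false
set_option linter.unusedVariables false

namespace CF.Mg

open Cfsg Subgroup CF.Fus CF.FusC CF.Mxc Module
open CF.Fgs2 (LC MaxC twoStep mem_twoStep)
open scoped commutatorElement

universe u

variable {G : Type u} [Group G] {p t i j k r : ℕ} {A B E H N O S : Subgroup G} {L K : ℕ → Subgroup G}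
  {g s x y z : G}

/-- more facts on a group of maximal class -/
structure MY (p t : ℕ) (S : Subgroup G) (L K : ℕ → Subgroup G) : Prop extends MX p t S L K where
  lcs : ∀ i, L i = S.lowerCentralSeries i
  nrm : ∀ {N : Subgroup G} {r : ℕ}, N ≤ S → S ≤ Nm N → 1 ≤ r → N.relIndex S = p ^ (r + 1) → N = L r
  gen1 : ∀ {y s : G}, y ∈ K 1 → y ∉ L 1 → s ∈ S → s ∉ K 1 → ⁅s, y⁆ ∉ L 2
  kidx : ∀ {r : ℕ}, 1 ≤ r → r ≤ t + 2 → (K r).relIndex S = p
  exc2 : ∀ {x : G}, x ∈ K (t + 2) → x ∉ K 1 → ∀ i j, i + j = t + 2 → ∃ u ∈ L i, ∃ v ∈ L j, ⁅u, v⁆ ≠ 1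

/-- an essential subgroup `E` normal in `S` -/
structure Eg (p : ℕ) (E S : Subgroup G) : Prop where
  pg : IsPGroup p S
  lt : E < S
  nm : S ≤ Nm E
  cen : ∀ x ∈ S, x ∈ Cn E → x ∈ E
  ex : ∃ g ∈ Nm E, ∀ O ≤ Nm E, (∀ h ∈ O, ∃ k, h ^ p ^ k ∈ Cn E) → ∀ x ∈ S, x ∉ E → ∀ y ∈ S, y ∉ E → x ∈ O →
    g * y * g⁻¹ ∈ O → False
  syl : ∃ T, SylIn p T (Nm E) ∧ S ≤ T ∧ ∀ y ∈ T, ∃ s ∈ S, s⁻¹ * y ∈ Cn E

variable [Fact p.Prime] [Finite G]

theorem exc2 {G : Type u} [Group G] [Finite G] {m : ℕ} {x : G} (h : MaxC p (m + 5) G) (hx : x ∈ KK G (m + 2))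
    (hx' : x ∉ KK G 1) (e : i + j = m + 2) : ∃ u ∈ LC G i, ∃ v ∈ LC G j, ⁅u, v⁆ ≠ 1 := by
  obtain ⟨y, hy⟩ : ∃ y, y ∉ KK G (m + 2) := by
    by_contra d
    push Not at d
    exact kne h (k := m + 2) le_rfl (eq_top_iff.2 fun y _ => d y)
  have g2 : ⁅x, y⁆ ∉ LC G 2 := fun d => gen2 h l1K hx (fun d => hx' (l1K d)) hy (sym d)
  have H : ∀ i j, i + j = m + 1 → ⁅x, ff x y i j⁆ ∈ LC G (m + 1 + 3) := fun i j e =>
    sym (hx _ (CF.Fgs2.LC_anti (by omega) ff_mem))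
  have f0 := ff0' h g2 (fun r a b d => hx' ((bla h (m + 1) le_rfl r a b).le d)) hy
  exact ⟨_, CF.Fgs2.engel_mem x y i, _, CF.Fgs2.engel_mem x y j,
    fun d => f0 ((alt H i j (by omega)).1 (by rw [ff, d]; exact one_mem _))⟩

theorem exists_my (h : MaxC p (t + 5) S) : ∃ L K, MY p t S L K := by
  obtain ⟨L, K, m⟩ := exists_mx h
  have inj := S.subtype_injective
  have mm : ∀ {H : Subgroup S} {x : S}, (x : G) ∈ H.map S.subtype ↔ x ∈ H := mem_map_iff_mem inj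
  have c : ∀ x y : S, ⁅(x : G), (y : G)⁆ = ((⁅x, y⁆ : S) : G) := fun x y => (map_commutatorElement S.subtype x y).symm
  have nr : ∀ {N : Subgroup G} {r : ℕ}, N ≤ S → S ≤ Nm N → 1 ≤ r → N.relIndex S = p ^ (r + 1) →
      N = (LC S r).map S.subtype := fun {N r} a b e f => by
    haveI : (N.subgroupOf S).Normal := (normal_subgroupOf_iff_le_normalizer a).2 b
    rw [← map_subgroupOf_eq_of_le a, CF.Fgs2.eq_lcs_of_maxClass h.card h.three h.ne (N.subgroupOf S) (by omega) f]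
    rfl
  have hL : ∀ r, L r = (LC S r).map S.subtype := fun r => by
    rcases (show r = 0 ∨ (1 ≤ r ∧ r ≤ t + 4) ∨ t + 4 ≤ r by omega) with rfl | ⟨a, b⟩ | a
    · rw [m.l0]; exact (map_LC S 0).symm
    · refine nr m.le m.nm a ?_
      have := card_eq_mul' (m.le (i := r))
      rw [m.card, m.cl r (t + 4 - r) a (by omega), show t + 5 = t + 4 - r + (r + 1) by omega, pow_add] at this
      exact (Nat.eq_of_mul_eq_mul_left (pow_pos (Fact.out : p.Prime).pos _) this).symm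
    · rw [le_bot_iff.1 ((m.anti a).trans m.bot.le), le_bot_iff.1 ((CF.Fgs2.LC_anti (i := t + 5 - 1) a).trans h.bot.le),
        Subgroup.map_bot]
  have hK : ∀ r (x : S), (x : G) ∈ K r ↔ x ∈ KK S r := fun r x => by
    rw [m.mk', hL, hL]
    exact ⟨fun a y hy => mm.1 (c y x ▸ a.2 y (mm.2 hy)), fun a => ⟨x.2, by
      rintro _ ⟨y, hy, rfl⟩; exact ⟨_, a y hy, map_commutatorElement _ _ _⟩⟩⟩
  refine ⟨L, K, m, fun i => (hL i).trans (map_LC S i), fun a b e f => (nr a b e f).trans (hL _).symm,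
    fun {y s} hy hy' hs hs' e => ?_, fun {r} a b => ?_, fun {x} hx hx' i j e => ?_⟩
  · rw [hL] at hy' e
    exact gen2 h l1K ((hK 1 ⟨y, m.kS hy⟩).1 hy) (fun d => hy' (mm.2 d)) (s := ⟨s, hs⟩)
      (fun d => hs' ((hK 1 ⟨s, hs⟩).2 d)) (mm.1 (c ⟨s, hs⟩ ⟨y, m.kS hy⟩ ▸ e))
  · rw [← kidx h a (by omega), relIndex_top_right, relIndex]
    congr 1
    exact Subgroup.ext (hK r)
  · obtain ⟨u, hu, v, hv, b⟩ := exc2 h ((hK _ ⟨x, m.kS hx⟩).1 hx) (fun d => hx' ((hK 1 ⟨x, m.kS hx⟩).2 d)) e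
    exact ⟨u, hL i ▸ mm.2 hu, v, hL j ▸ mm.2 hv, fun d => b (inj (by rw [map_commutatorElement, map_one]; exact d))⟩

theorem eg_of_ess (hF : Sat (FT S) p) (hE : (FT S).IsEssential p E) (hn : S ≤ Nm E) : Eg p E S := by
  have a := (hF.ess_lt hE).le
  have top : ∀ O : Subgroup G, autInducedBy O E ≤ (FT S).autGroup E := fun O => by
    rw [autGroup_ofSubgroup _ a]; exact autInducedBy_mono le_top
  refine ⟨hF.pgroup le_rfl, hF.ess_lt hE, hn, fun x hx h => hF.ess_centric hE ⟨hx, h⟩, ?_, ?_⟩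
  · obtain ⟨α, hα⟩ := hF.exists_gen hE
    obtain ⟨g, hg, rfl⟩ := (aut_iff a).1 hα.1
    exact ⟨g, hg, fun O hO h x hx hx' y hy hy' h3 h4 => hx' (hα.mem hF hE ⟨hx, hn hx⟩ hx' ⟨hy, hn hy⟩ hy'
      (top O) (cA_mem_autInducedBy h3) (cA_conj hg (hn hy) ▸ cA_mem_autInducedBy h4) ⟨hx, hn hx⟩
      (le_OpIn le_rfl le_normalizer (pg_aut hO h) (cA_mem_autInducedBy h3)))⟩
  · obtain ⟨T, h1, h2⟩ := exists_sylIn_ge hn (hF.pgroup le_rfl)
    refine ⟨T, h2, h1, fun y hy => ?_⟩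
    have := (hF.ess_syl hE).max _ (autInducedBy_mono h1) (top T) (pg_aut h2.le fun g hg =>
      (isPGroup_iff_mem.1 h2.pg g hg).imp fun k (e : g ^ p ^ k = 1) => by rw [e]; exact one_mem _)
    obtain ⟨s, hs, e⟩ := (cA_mem_autInducedBy_iff (h2.le hy)).1 (this.le (cA_mem_autInducedBy hy))
    exact ⟨s, hs.1, e⟩

theorem Eg.pgE (h : Eg p E S) : IsPGroup p E := h.pg.to_le h.lt.le

theorem Eg.mem (h : Eg p E S) (hO : O ≤ Nm E) (hn : Nm E ≤ Nm O) (e : ∀ g ∈ O, Cop p g → g ∈ Cn E) (hx : x ∈ S)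
    (hx' : x ∈ O) : x ∈ E := by
  obtain ⟨g, hg, a⟩ := h.ex
  by_contra c
  exact a O hO (fun y hy => (exists_cop p y).imp fun k b => e _ (pow_mem hy _) b) x hx c x hx c hx'
    (conj_mem_of_norm (hn hg) hx')

/-- the module on an elementary abelian section -/
theorem exists_sec (h : B ≤ A) (el : El p B A) (h1 : H ≤ Nm A) (h2 : H ≤ Nm B) :
    ∃ (M : Type u) (_ : AddCommGroup M) (_ : Module (ZMod p) M) (_ : Finite M) (φ : G → M)
      (ρ : G → (End (ZMod p) M)ˣ), (∀ a ∈ A, ∀ b ∈ A, φ (a * b) = φ a + φ b) ∧ (∀ a ∈ A, φ a = 0 ↔ a ∈ B) ∧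
        (∀ m, ∃ a ∈ A, φ a = m) ∧ MulOn ρ H ∧ ∀ h ∈ H, ∀ a ∈ A, (ρ h).val (φ a) = φ (h * a * h⁻¹) := by
  classical
  obtain ⟨Q, _, _, π, m, k⟩ := exists_quot B
  have n := el.norm h
  have mA := m.mono n
  have hc : IsMulCommutative (img π A) := ⟨⟨fun a b => by
    obtain ⟨a, ha, e⟩ := mA.mem_img.1 a.2
    obtain ⟨b, hb, f⟩ := mA.mem_img.1 b.2
    exact Subtype.ext (by
      rw [coe_mul, coe_mul, ← e, ← f]; exact ((quot_comm m k (n ha) (n hb)).1 (el.1 a ha b hb)).eq)⟩⟩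
  open scoped IsMulCommutative in
  have : Module (ZMod p) (Additive (img π A)) := AddCommGroup.zmodModule fun x => Subtype.ext (by
    obtain ⟨a, ha, e⟩ := mA.mem_img.1 x.toMul.2
    change x.toMul.1 ^ p = 1
    rw [← e, ← mA.map_pow ha, k _ (n (pow_mem ha p))]; exact el.2 a ha)
  have nn : ∀ g ∈ H, π g ∈ Nm (img π A) := fun g hg => mem_normalizer_of_le (S := ⊤) le_top fun x hx => by
    obtain ⟨a, ha, rfl⟩ := mA.mem_img.1 hx
    rw [← m.map_conj (h2 hg) (n ha)]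
    exact mem_img_of_mem (conj_mem_of_norm (h1 hg) ha)
  let ψ : Nm (img π A) →* MulAut (img π A) := (img π A).normalizerMonoidHom
  open scoped IsMulCommutative in
  let ρ : Nm (img π A) →* End (ZMod p) (Additive (img π A)) :=
    { toFun := fun h => (MonoidHom.toAdditive (ψ h).toMonoidHom).toZModLinearMap p
      map_one' := by ext e; simp
      map_mul' := fun g h => by ext e; simp }
  refine ⟨_, _, this, inferInstance, fun a => if ha : a ∈ A then .ofMul ⟨π a, mem_img_of_mem ha⟩ else 0,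
    Fus.ext ρ.toHomUnits ∘ π, fun a ha b hb => ?_, fun a ha => ?_, fun x => ?_,
    (m.mono h2).comp (mulOn_ext _) nn, fun g hg a ha => ?_⟩
  · simp only [dif_pos ha, dif_pos hb, dif_pos (mul_mem ha hb)]
    exact Subtype.ext (mA ha hb)
  · simp only [dif_pos ha]
    exact ⟨fun e => (k a (n ha)).1 (congrArg Subtype.val e), fun e => Subtype.ext ((k a (n ha)).2 e)⟩
  · obtain ⟨a, ha, e⟩ := mA.mem_img.1 x.toMul.2
    exact ⟨a, ha, by simp only [dif_pos ha]; exact Subtype.ext e⟩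
  · simp only [dif_pos ha, dif_pos (conj_mem_of_norm (h1 hg) ha), Function.comp, ext_of_mem _ (nn g hg)]
    exact Subtype.ext (m.map_conj (h2 hg) (n ha)).symm

end CF.Mg
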