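import Cfsg.Agent.Mg.B

/-! The exceptional case: an elementary abelian term of the lower central series. -/

set_option autoImplicit false

namespace CF.Mg

open Cfsg Subgroup CF.Fus CF.FusC CF.Mxc
open scoped commutatorElement

universe u

variable {G : Type u} [Group G] {p t r : ℕ} {S : Subgroup G} {L K : ℕ → Subgroup G} [Fact p.Prime] [Finite G]

theorem MY.exc' (m : MY p t S L K) (e : Eg p (L r) S) (r1 : 1 ≤ r) (rt : r ≤ t) (fr : Fr (L r) = ⊥)
    (hK : K (t + 2) ≠ K 1) : False := by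
  have p1 : 1 < p := (Fact.out : p.Prime).one_lt
  obtain ⟨x0, a1, a2⟩ := SetLike.not_le_iff_exists.1 fun l => hK (le_antisymm l (m.keq l))
  have b1 : t + 3 ≤ 2 * r := not_lt.1 fun l => by
    obtain ⟨u, hu, v, hv, q⟩ := m.exc2 a1 a2 r (t + 2 - r) (by omega)
    exact q (mem_bot.1 (fr ▸ (el_Fr e.pgE).1 u hu v (m.anti (by omega) hv)))
  have b2 : 2 * r ≤ t + 3 := by
    have := card_le_of_le (show L (t + 3 - r) ≤ L r from fun x l =>
      e.cen x (m.le l) (mem_Cn_comm.2 fun y k => m.one k l (by omega)))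
    rw [m.cl _ (r + 1) (by omega) (by omega), m.cl r (t + 4 - r) r1 (by omega), Nat.pow_le_pow_iff_right p1] at this
    omega
  obtain ⟨z, z1, z2⟩ := SetLike.not_le_iff_exists.1 fun l : L (r - 1) ≤ L (r - 1 + 1) =>
    p1.ne ((relIndex_eq_one.2 l).symm.trans (m.idx (by omega) (by omega)))
  rw [Nat.sub_add_cancel r1] at z2
  have c1 : (⊥ : Subgroup G).relIndex (L (t + 3)) = p := by rw [relIndex_bot_left, m.cl _ 1 (by omega) rfl, pow_one]
  obtain ⟨v, v1, v2⟩ := SetLike.not_le_iff_exists.1 fun l : L (t + 3) ≤ ⊥ => p1.ne ((relIndex_eq_one.2 l).symm.trans c1)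
  have c2 := sup_zpowers_eq c1 bot_le v1 v2
  rw [bot_sup_eq] at c2
  obtain ⟨g, hg, k⟩ := e.ex
  have zE : L (t + 3) ≤ L r := m.anti (by omega)
  have vE : g * v * g⁻¹ ∈ L r := conj_mem_of_norm hg (zE v1)
  obtain ⟨x, ⟨x1, x2⟩, x3⟩ := SetLike.not_le_iff_exists.1 fun l : Cm1 (g * v * g⁻¹) ⊥ ⊓ S ≤ L r => by
    have i1 := idx_Cm1_le (P := S) (B := ⊥) (A := L (r + 1)) (v := g * v * g⁻¹) le_Nm_bot fun x l => comm_symm (m.c1 vE l le_rfl)
    have i2 := card_eq_mul' (m.le (i := r))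
    rw [m.card, m.cl r (r + 1) r1 (by omega), show t + 5 = r + 1 + (r + 1) by omega, pow_add] at i2
    have i3 : (L r).relIndex S ≤ (Cm1 (g * v * g⁻¹) ⊥ ⊓ S).relIndex S :=
      Nat.le_of_dvd (Nat.pos_of_ne_zero index_ne_zero_of_finite) (relIndex_dvd_of_le_left S l)
    rw [inf_relIndex_right, ← Nat.eq_of_mul_eq_mul_left (by positivity) i2] at i3
    rw [relIndex_bot_left, m.cl _ r (by omega) (by omega)] at i1
    exact absurd ((Nat.pow_le_pow_iff_right p1).1 (i3.trans i1)) (by omega)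
  have yE : Cj g (L (t + 3)) ≤ L r := Cj_le hg zE
  have bb : Cj g (⊥ : Subgroup G) = ⊥ := Cj_eq mem_Nm_bot
  refine k (zpowers x ⊔ Ch (L r) (Cj g (L (t + 3))) ⊥) (sup_le (zpowers_le.2 (e.nm x2)) fun _ l => l.1.1.1) (fun h l => ?_)
    x x2 x3 z (m.le z1) z2 (mem_sup_left (mem_zpowers x)) (mem_sup_right ⟨⟨?_, ?_⟩, ?_⟩)
  · refine (exists_cop p h).imp fun n c => c.cent_ch e.pgE bot_le yE (c.mem_of_sup (m.pg.to_le (zpowers_le.2 x2))
      (zpowers_le.2 (norm_Ch (e.nm x2) ?_ mem_Nm_bot)) (pow_mem l _))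
    rw [← c2, Cj_zpowers]
    exact Cn_le_Nm (Cn_symm (zpowers_le.2 (mem_Cn_comm.2 fun y l => mem_bot.1 (by
      obtain ⟨n, rfl⟩ := mem_zpowers_iff.1 l
      exact commutatorElement_eq_one_iff_commute.2 ((commutatorElement_eq_one_iff_commute.1 x1.2).zpow_left n)))) (mem_zpowers x))
  · have := Tr.cj (g := g) (mem_Tr_of_le zE fun y l => m.cm l z1 (by omega))
    rwa [Cj_eq hg] at this
  · have := Tr.cj (g := g) (mem_Tr_bot.2 (m.cZ (m.le z1)))
    rwa [bb] at this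
  · rw [fr]; exact mem_Tr_same mem_Nm_bot

end CF.Mg
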