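import Cfsg.Agent.Mg.B

/-! Essential maximal subgroups of a group of maximal class are two-step centralisers. -/

set_option autoImplicit false
set_option linter.unusedSectionVars false
set_option linter.unusedVariables false

namespace CF.Mg

open Cfsg Subgroup CF.Fus CF.FusC CF.Mxc Module
open scoped commutatorElement

universe u

variable {G : Type u} [Group G] {p t r : ℕ} {A B C E S : Subgroup G} {L K : ℕ → Subgroup G} {g z : G}
  [Fact p.Prime] [Finite G]

theorem dnorm_iInf {ι : Sort*} {X : ι → Subgroup G} (h : ∀ i, g ∈ Nm (X i)) : g ∈ Nm (⨅ i, X i) :=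
  mem_normalizer_of_le (S := ⊤) le_top fun x hx =>
    mem_iInf.2 fun i => conj_mem_of_norm (h i) (mem_iInf.1 hx i)

theorem deq_of_idx (h1 : A ≤ B) (h2 : B ≤ C) (a : A.relIndex C = p) (b : B.relIndex C = p) : A = B :=
  ((eq_or_eq_of_prime a h1 h2).resolve_right fun e => by
    rw [e, relIndex_self] at b; exact (Fact.out : p.Prime).one_lt.ne b).symm

theorem MY.didx1 (m : MY p t S L K) : (L 1).relIndex S = p ^ 2 := by
  have := card_eq_mul' (m.toMX.le (i := 1))
  rw [m.card, m.cl 1 (t + 3) le_rfl (by omega), show t + 5 = t + 3 + 2 by omega, pow_add] at this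
  exact (Nat.eq_of_mul_eq_mul_left (pow_pos (Fact.out : p.Prime).pos _) this).symm

theorem MY.max (m : MY p t S L K) (e : Eg p E S) (hi : E.relIndex S = p) : E = K 1 ∨ E = K (t + 2) := by
  by_contra c
  obtain ⟨c1, c2⟩ := not_or.1 c
  have x := m.toMX
  have ES := e.lt.le
  have l1 : L 1 ≤ E := by
    obtain ⟨y, hy, hy'⟩ := SetLike.exists_of_lt e.lt
    rw [m.lcs, Subgroup.lowerCentralSeries_succ, Subgroup.lowerCentralSeries_zero, commutator_le]
    exact fun a ha b hb => comm_of_cyc e.nm (sup_zpowers_eq hi ES hy hy')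
      (fun u hu v hv => comm_mem_left (e.nm hv) hu) ha hb
  have i1 : (L 1).relIndex E = p := by
    have := idx_mul l1 ES
    rw [m.didx1, hi, sq] at this
    exact (Nat.eq_of_mul_eq_mul_right (Fact.out : p.Prime).pos this).symm
  have out : ∀ j, 1 ≤ j → j ≤ t + 2 → E ≠ K j → ∀ a ∈ E, a ∈ K j → a ∈ L 1 := fun j a b c y hy hy' => by
    by_contra d
    exact c (deq_of_idx (le_of_prime i1 l1 (x.l1 le_rfl) hy d hy') x.kS hi (m.kidx a b))
  have outr : ∀ j, 1 ≤ j → j ≤ t + 2 → ∀ a ∈ E, a ∈ K j → a ∈ L 1 := fun j a b => by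
    rcases b.lt_or_eq with b | rfl
    · rw [x.bla a (by omega)]; exact out 1 le_rfl (by omega) c1
    · exact out _ a le_rfl c2
  obtain ⟨s, hs, hs'⟩ := SetLike.exists_of_lt (lt_of_prime l1 i1)
  have cm : ∀ j, 2 ≤ j → j ≤ t + 3 → Cm E E (L (j + 1)) = L j := fun j a b => by
    ext y
    rw [mem_Cm (ES.trans x.nm)]
    refine ⟨fun ⟨h1, h2⟩ => ?_, fun h => ⟨l1 (x.anti (by omega) h), fun v hv => x.c1 h (ES hv) le_rfl⟩⟩
    have y1 : y ∈ L 1 := outr 1 le_rfl (by omega) y h1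
      (x.mk'.2 ⟨ES h1, fun v hv => x.anti (by omega) (comm_symm (h2 v (l1 hv)))⟩)
    by_contra d
    obtain ⟨k, k1, k2, k3, k4⟩ := x.lev y1 j d
    exact hs' (outr k k1 (by omega) s hs (x.kof k1 k3 k4 (ES hs) (x.anti (by omega) (h2 s hs))))
  have top : ∀ j, t + 4 ≤ j → L j = ⊥ := fun j a => le_bot_iff.1 ((x.anti a).trans x.bot.le)
  have n2 : ∀ k j, 2 ≤ j → t + 4 ≤ j + k → Nm E ≤ Nm (L j) := fun k => by
    induction k with
    | zero => exact fun j a b g _ => by rw [top j b]; exact mem_Nm_bot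
    | succ k ih =>
      intro j a b g hg
      by_cases d : t + 4 ≤ j
      · rw [top j d]; exact mem_Nm_bot
      · rw [← cm j a (by omega)]
        exact norm_Cm (ES.trans x.nm) hg hg (ih (j + 1) (by omega) (by omega) hg)
  have n1 : ∀ j, 1 ≤ j → Nm E ≤ Nm (L j) := fun j a => by
    rcases a.lt_or_eq with a | rfl
    · exact n2 (t + 4) j a (by omega)
    · intro g hg
      have : L 1 = E ⊓ Cn (L (t + 2)) := le_antisymm (fun y hy => ⟨l1 hy, (x.mM.1 (x.l1 le_rfl hy)).2⟩)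
        fun y hy => outr _ (by omega) le_rfl y hy.1 (x.mM.2 ⟨ES hy.1, hy.2⟩)
      rw [this]
      exact norm_inf hg (norm_Cn (n2 2 _ (by omega) (by omega) hg))
  refine e.lt.not_ge fun y hy => e.mem (O := Nm E ⊓ Tr E (L 1) ⊓ ⨅ j, Tr (L (j + 1)) (L (j + 2)))
    (inf_le_left.trans inf_le_left) (fun g hg => norm_inf (norm_inf (norm_Nm hg) (norm_Tr hg (n1 1 le_rfl hg)))
      (dnorm_iInf fun j => norm_Tr (n1 _ (by omega) hg) (n1 _ (by omega) hg))) (fun g hg hc => ?_) hy
    ⟨⟨e.nm hy, mem_Tr_of_le l1 fun v hv => x.c1 (i := 0) (x.l0 ▸ ES hv) hy le_rfl⟩,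
      mem_iInf.2 fun j => mem_Tr_of_le (x.anti (by omega)) fun v hv => x.c1 hv hy le_rfl⟩
  have : ∀ j, g ∈ Tr E (L (j + 1)) := fun j => by
    induction j with
    | zero => exact hg.1.2
    | succ j ih => exact hc.tr x.pl ih (mem_iInf.1 hg.2 j)
  exact mem_Tr_bot.1 (x.bot ▸ this (t + 3))

end CF.Mg
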