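import Cfsg.Agent.Mg.K
import Mathlib.RingTheory.PowerSeries.Order

/-! An element of the span of all deformations with zero constant term vanishes. -/

set_option autoImplicit false

namespace CF.Mg
open Module PowerSeries

/-- the multiples of `X ^ n` -/
def H.I (k B : Type*) [Field k] [Ring B] [Algebra k B] (n : ℕ) : Submodule k B⟦X⟧ where
  carrier := {f | X ^ n ∣ f}
  add_mem' := dvd_add
  zero_mem' := dvd_zero _
  smul_mem' := fun c _ ⟨g, e⟩ => ⟨c • g, by rw [e, mul_smul_comm]⟩

theorem head {k V Γ : Type*} [Field k] [AddCommGroup V] [Module k V] [Group Γ] [Finite Γ] (ρ : Γ →* (End k V)ˣ)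
    (irr : ∀ W : Submodule k V, (∀ g, ∀ v ∈ W, (ρ g).val v ∈ W) → W = ⊥ ∨ W = ⊤) {T : (End k V)⟦X⟧}
    (h0 : constantCoeff T = 0) (h : ∀ N, ∃ φ : Γ → (End k V)⟦X⟧, (∀ g, constantCoeff (φ g) = ρ g) ∧
      (∀ g h, X ^ N ∣ φ (g * h) - φ g * φ h) ∧ T ∈ Submodule.span k (Set.range φ)) : T = 0 := by
  by_contra n
  have := Fintype.ofFinite Γ
  obtain ⟨m, U, rfl, hU⟩ : ∃ m U, T = X ^ m * U ∧ constantCoeff U ≠ 0 :=
    ⟨_, _, X_pow_order_mul_divXPowOrder.symm, mt constantCoeff_divXPowOrder_eq_zero_iff.1 n⟩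
  have m1 : m ≠ 0 := by rintro rfl; exact hU (by simpa using h0)
  obtain ⟨φ, c, d, t⟩ := h ((Fintype.card Γ + 1) * m + 1)
  let A := Submodule.span k (Set.range φ) ⊔ H.I k _ ((Fintype.card Γ + 1) * m + 1)
  have g0 : ∀ g, φ g ∈ A := fun g => Submodule.mem_sup_left (Submodule.subset_span ⟨g, rfl⟩)
  have a : A * A ≤ A := by
    rw [Submodule.sup_mul, Submodule.mul_sup, Submodule.span_mul_span]
    refine sup_le (sup_le (Submodule.span_le.2 ?_) (Submodule.mul_le.2 fun x _ y b => Submodule.mem_sup_right (K.dl b x)))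
      (Submodule.mul_le.2 fun x b y _ => Submodule.mem_sup_right (Dvd.dvd.mul_right b y))
    rintro _ ⟨_, ⟨g, rfl⟩, _, ⟨u, rfl⟩, rfl⟩
    simpa using sub_mem (g0 (g * u)) (Submodule.mem_sup_right (d g u))
  have b : ∀ j, ∃ W, constantCoeff W ≠ 0 ∧ X ^ ((j + 1) * m) * W ∈ A := fun j => by
    induction j with
    | zero => exact ⟨U, hU, by simpa using Submodule.mem_sup_left t⟩
    | succ j ih =>
      obtain ⟨W, w, e⟩ := ih
      obtain ⟨g, p⟩ : ∃ g, constantCoeff U * ρ g * constantCoeff W ≠ 0 := by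
        by_contra! z
        obtain ⟨v, q⟩ : ∃ v, constantCoeff W v ≠ 0 := not_forall.1 fun q => w (LinearMap.ext q)
        rcases irr (⨅ g, (LinearMap.ker (constantCoeff U)).comap (ρ g).val) (fun g v q => (Submodule.mem_iInf _).2 fun u => by
          simpa using (Submodule.mem_iInf _).1 q (u * g)) with r | r
        · exact q ((Submodule.mem_bot k).1 (r ▸ (Submodule.mem_iInf _).2 fun g => LinearMap.congr_fun (z g) v))
        · exact hU (LinearMap.ext fun v => by simpa using (Submodule.mem_iInf _).1 (r.ge (Submodule.mem_top (x := v))) 1)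
      refine ⟨U * φ g * W, by rwa [map_mul, map_mul, c], ?_⟩
      have := a (Submodule.mul_mem_mul (a (Submodule.mul_mem_mul (Submodule.mem_sup_left t) (g0 g))) e)
      rwa [mul_assoc _ U, mul_assoc, (commute_X_pow (U * φ g) ((j + 1) * m)).left_comm W, ← mul_assoc, ← pow_add, add_comm m,
        ← add_one_mul] at this
  let J := fun j => (H.I k _ (j * m + 1)).comap (Fintype.linearCombination k φ)
  have f : ∀ j ≤ Fintype.card Γ + 1, finrank k (J j) + j ≤ Fintype.card Γ := fun j l => by
    induction j with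
    | zero => simpa using (J 0).finrank_le
    | succ j ih =>
      have s : j * m + 1 ≤ (j + 1) * m := by rw [add_one_mul]; omega
      have s' : X ^ ((j + 1) * m + 1) ∣ (X : (End k V)⟦X⟧) ^ ((Fintype.card Γ + 1) * m + 1) := pow_dvd_pow _ (by gcongr)
      obtain ⟨W, w, e⟩ := b j
      obtain ⟨_, e, y, p, q⟩ := Submodule.mem_sup.1 e
      obtain ⟨x, rfl⟩ := (Fintype.range_linearCombination k φ).ge e
      replace q := eq_sub_of_add_eq q
      have : J (j + 1) < J j := lt_of_le_not_ge (fun x r => (pow_dvd_pow _ (s.trans (Nat.le_succ _))).trans r) fun r => by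
        have u : X ^ ((j + 1) * m + 1) ∣ Fintype.linearCombination k φ x := r (show x ∈ J j from show _ ∣ _ from q ▸ dvd_sub ((pow_dvd_pow _ s).mul_right W)
          ((pow_dvd_pow _ (s.trans (Nat.le_succ _))).trans (s'.trans p)))
        rw [q, dvd_sub_left (s'.trans p)] at u
        exact w (by simpa [coeff_X_pow_mul'] using X_pow_dvd_iff.1 u _ (Nat.lt_succ_self _))
      have := Submodule.finrank_lt_finrank_of_lt this
      have := ih (by omega)
      omega
  have := f _ le_rfl
  omega

end CF.Mg
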