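import Cfsg.Agent.Mg.A
import Mathlib.RingTheory.PowerSeries.Inverse
import Mathlib.GroupTheory.DoubleCoset

/-! Lifting a stable deformation from a subgroup of invertible index. -/

set_option autoImplicit false
set_option linter.unusedSectionVars false

namespace CF.Mg
open PowerSeries

namespace K
variable {k B Γ : Type*} [Field k] [Ring B] [Algebra k B] [Group Γ] [Finite Γ] {P : Subgroup Γ}
  {ρ : Γ →* Bˣ} {σ φ f g : Γ → B⟦X⟧} {a b : B⟦X⟧} {m n : ℕ}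

theorem dl (h : X ^ n ∣ b) (a : B⟦X⟧) : X ^ n ∣ a * b := by
  obtain ⟨c, rfl⟩ := h
  exact ⟨a * c, (commute_X_pow a n).left_comm c⟩

theorem dm (h : X ^ m ∣ a) (h' : X ^ n ∣ b) : X ^ (m + n) ∣ a * b := by
  obtain ⟨c, rfl⟩ := h
  obtain ⟨d, rfl⟩ := h'
  exact ⟨c * d, by rw [pow_add, mul_assoc, mul_assoc, (commute_X_pow c n).left_comm d]⟩

/-- averaging over the cosets -/
noncomputable def Av (k : Type*) [Field k] [Algebra k B] (P : Subgroup Γ) : (Γ → B⟦X⟧) →+ B⟦X⟧ :=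
  have := Fintype.ofFinite (Γ ⧸ P)
  .mk' (fun f => (P.index : k)⁻¹ • ∑ q : Γ ⧸ P, f q.out) fun f g => by simp [Finset.sum_add_distrib]

theorem Av_l (a : B⟦X⟧) (f : Γ → B⟦X⟧) : Av k P (fun h => a * f h) = a * Av k P f := by simp [Av, Finset.mul_sum]
theorem Av_r (a : B⟦X⟧) (f : Γ → B⟦X⟧) : Av k P (fun h => f h * a) = Av k P f * a := by simp [Av, Finset.sum_mul]

theorem Av_c (hP : (P.index : k) ≠ 0) (a : B⟦X⟧) : Av k P (fun _ => a) = a := by
  simp only [Av, AddMonoidHom.mk'_apply, Finset.sum_const, Finset.card_univ, ← Nat.card_eq_fintype_card]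
  rw [← Nat.cast_smul_eq_nsmul k, smul_smul]
  exact (congrArg (· • a) (inv_mul_cancel₀ hP)).trans (one_smul _ _)

theorem Av_s (h : ∀ g, ∀ y ∈ P, f (g * y) = f g) (u : Γ) : Av k P (fun g => f (u * g)) = Av k P f := by
  simp only [Av, AddMonoidHom.mk'_apply]
  letI := Fintype.ofFinite (Γ ⧸ P)
  refine congrArg _ (Fintype.sum_equiv (MulAction.toPerm u) _ _ fun q => ?_)
  obtain ⟨y, e⟩ := QuotientGroup.mk_out_eq_mul P (u • q.out)
  rw [MulAction.toPerm_apply, ← MulAction.Quotient.mk_smul_out, e, h _ _ y.2, smul_eq_mul]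

theorem Av_d (h : ∀ g, X ^ n ∣ f g) : X ^ n ∣ Av k P f := by
  choose c e using h
  exact ⟨Av k P c, by rw [← Av_l, funext e]⟩

structure Gd (P : Subgroup Γ) (ρ : Γ →* Bˣ) (σ φ : Γ → B⟦X⟧) : Prop where
  c : ∀ g, constantCoeff (φ g) = ρ g
  l : ∀ x ∈ P, ∀ g, φ (x * g) = σ x * φ g
  r : ∀ g, ∀ y ∈ P, φ (g * y) = φ g * σ y

theorem step (hP : (P.index : k) ≠ 0) (h : Gd P ρ σ φ) (d : ∀ g u, X ^ (n + 1) ∣ φ (g * u) - φ g * φ u) :
    ∃ φ, Gd P ρ σ φ ∧ φ 1 = 1 ∧ ∀ g u, X ^ (n + 2) ∣ φ (g * u) - φ g * φ u := by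
  choose Φ e using fun g => isUnit_iff_constantCoeff.2 (h.c g ▸ (ρ g).isUnit)
  obtain ⟨ψ, p, q⟩ : ∃ ψ : Γ → B⟦X⟧, (∀ g, φ g * ψ g = 1) ∧ ∀ g, ψ g * φ g = 1 :=
    ⟨fun g => (Φ g)⁻¹.val, fun g => e g ▸ (Φ g).mul_inv, fun g => e g ▸ (Φ g).inv_mul⟩
  have s : ∀ g u, Av k P (fun v => φ (g * (u * v)) * ψ (u * v)) = Av k P fun v => φ (g * v) * ψ v := fun g =>
    Av_s (f := fun v => φ (g * v) * ψ v) fun v y hy => by
      rw [← mul_assoc g, h.r _ _ hy, mul_assoc, left_inv_eq_right_inv (q v) (by rw [← mul_assoc, ← h.r _ _ hy, p])]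
  generalize hA : (fun g => Av k P fun v => φ (g * v) * ψ v) = A
  have a : ∀ g, A g = Av k P fun v => φ (g * v) * ψ v := fun g => hA ▸ rfl
  have b : ∀ g, X ^ (n + 1) ∣ A g - φ g := fun g => by
    rw [a, ← Av_c hP (φ g), ← map_sub]
    exact Av_d fun v => by simpa [sub_mul, mul_assoc, p] using (d g v).mul_right (ψ v)
  refine ⟨A, ⟨fun g => ?_, fun x hx g => ?_, fun g y hy => ?_⟩, by simp [a, p, Av_c hP], fun g u => ?_⟩
  · rw [← h.c, ← sub_eq_zero, ← map_sub, ← X_dvd_iff]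
    exact (dvd_pow_self _ n.succ_ne_zero).trans (b g)
  · simp only [a, mul_assoc, h.l x hx, Av_l]
  · rw [a, a, ← s g y, ← Av_r]
    refine congrArg _ (funext fun v => ?_)
    rw [mul_assoc, mul_assoc, ← left_inv_eq_right_inv (a := φ v) (by rw [mul_assoc, ← h.l _ hy, q]) (p v)]
  · have : A g * A u - A (g * u) = (A g - φ g) * (A u - φ u) +
        Av k P fun v => (φ (g * (u * v)) - φ g * φ (u * v)) * (ψ (u * v) * (φ u * φ v - φ (u * v)) * ψ v) := by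
      have : (fun v => (φ (g * (u * v)) - φ g * φ (u * v)) * (ψ (u * v) * (φ u * φ v - φ (u * v)) * ψ v)) =
          (fun v => φ (g * (u * v)) * ψ (u * v) * φ u) - (fun v => φ (g * u * v) * ψ v) - (fun _ => φ g * φ u) +
            fun v => φ g * (φ (u * v) * ψ v) := funext fun v => by
        simp only [Pi.add_apply, Pi.sub_apply, mul_sub, sub_mul, mul_assoc, p, q, mul_one, ← mul_assoc (φ (u * v)) (ψ _),
          ← mul_assoc (ψ (u * v)) (φ (u * v)), one_mul]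
        abel
      rw [this, map_add, map_sub, map_sub, Av_r, s, Av_c hP, Av_l, ← a, ← a, ← a]
      noncomm_ring
    rw [← dvd_neg, neg_sub, this]
    exact (pow_dvd_pow _ (by omega)).trans (dvd_add (dm (b g) (b u))
      (Av_d fun v => dm (d _ _) ((dl (dvd_sub_comm.1 (d u v)) _).mul_right _)))

end K
open K

theorem lift {k B Γ : Type*} [Field k] [Ring B] [Algebra k B] [Group Γ] [Finite Γ] {P : Subgroup Γ}
    (hP : (P.index : k) ≠ 0) (ρ : Γ →* Bˣ) (σ : Γ → B⟦X⟧) (s1 : ∀ x ∈ P, constantCoeff (σ x) = ρ x)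
    (s2 : ∀ x ∈ P, ∀ y ∈ P, σ (x * y) = σ x * σ y)
    (s3 : ∀ g, ∀ x ∈ P, ∀ y ∈ P, g * x = y * g → C (ρ g : B) * σ x = σ y * C (ρ g : B)) (N : ℕ) :
    ∃ φ : Γ → B⟦X⟧, (∀ g, constantCoeff (φ g) = ρ g) ∧ (∀ g h, X ^ N ∣ φ (g * h) - φ g * φ h) ∧
      ∀ x ∈ P, φ x = σ x := by
  have key : ∀ r x y x' y', x ∈ P → y ∈ P → x' ∈ P → y' ∈ P → x * r * y = x' * r * y' →
      σ x * C (ρ r : B) * σ y = σ x' * C (ρ r : B) * σ y' := fun r x y x' y' a b c d e => by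
    have m := mul_mem b (inv_mem d)
    have n := mul_mem (inv_mem a) c
    rw [← inv_mul_cancel_right y y', s2 _ m _ d, mul_assoc, ← mul_assoc (C _), s3 r _ m _ n (by
      rw [← mul_assoc, mul_inv_eq_iff_eq_mul, mul_assoc x⁻¹, mul_assoc x⁻¹, ← e]; group), ← mul_assoc, ← mul_assoc, ← s2 _ a _ n,
      mul_inv_cancel_left]
  have : ∀ g, ∃ x ∈ P, ∃ y ∈ P, g = x * (DoubleCoset.mk P P g).out * y := fun g =>
    (DoubleCoset.eq P P _ g).1 (DoubleCoset.out_eq' P P _)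
  choose x hx y hy e using this
  have h0 : Gd P ρ σ fun g => σ (x g) * C (ρ (DoubleCoset.mk P P g).out : B) * σ (y g) := ⟨fun g => ?_, fun a m g => ?_, fun g a m => ?_⟩
  · obtain ⟨φ, h, d⟩ : ∃ φ, Gd P ρ σ φ ∧ ∀ g u, X ^ (N + 1) ∣ φ (g * u) - φ g * φ u := by
      induction N with
      | zero => exact ⟨_, h0, fun g u => by rw [zero_add, pow_one, X_dvd_iff, map_sub, map_mul _ _ (_ * _), h0.c, h0.c, h0.c]; simp⟩
      | succ n ih => exact ih.elim fun _ h => (step hP h.1 h.2).imp fun _ h => ⟨h.1, h.2.2⟩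
    obtain ⟨φ, h, o, d⟩ := step hP h d
    exact ⟨φ, h.c, fun g u => (pow_dvd_pow _ (by omega)).trans (d g u), fun a m => by simpa [o] using h.l a m 1⟩
  · simp only [map_mul, s1 _ (hx g), s1 _ (hy g), constantCoeff_C, ← Units.val_mul]
    rw [← map_mul, ← map_mul, ← e]
  · have k := (DoubleCoset.eq P P g (a * g)).2 ⟨a, m, 1, one_mem _, (mul_one _).symm⟩
    rw [← mul_assoc, ← mul_assoc, ← s2 _ m _ (hx g), ← k]
    exact key _ _ _ _ _ (hx _) (hy _) (mul_mem m (hx g)) (hy g) (by rw [mul_assoc a, mul_assoc a, ← e g, k, ← e])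
  · have k := (DoubleCoset.eq P P g (g * a)).2 ⟨1, one_mem _, a, m, by rw [one_mul]⟩
    rw [mul_assoc _ _ (σ a), ← s2 _ (hy g) _ m, ← k]
    exact key _ _ _ _ _ (hx _) (hy _) (hx g) (mul_mem (hy g) m) (by rw [← mul_assoc, ← e g, k, ← e])

end CF.Mg
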