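import Cfsg.Agent.Mg.E0
import Cfsg.Agent.Mg.K
import Cfsg.Agent.Mg.H

/-! The abelian case of the linear configuration. -/

set_option autoImplicit false
set_option linter.unusedSectionVars false
set_option linter.unusedVariables false

namespace CF.Mg

open Module Polynomial CF.Fus E

variable {p d : ℕ} [Fact p.Prime] {V : Type*} [AddCommGroup V] [Module (ZMod p) V] [Finite V]
  {X P : Subgroup (End (ZMod p) V)ˣ} {F : ℕ → Submodule (ZMod p) V} {s y z : (End (ZMod p) V)ˣ}

/-- a polynomial relation between `z` and `s` holds for all powers -/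
theorem E.rel (h : Lin p d X P F s z) (hc : ∀ x ∈ P, ∀ y ∈ P, Commute x y) {g : (ZMod p)[X]}
    (e : z.val = aeval s.val g) {n : ℕ} (hn : n < p) : z.val ^ n = aeval (s.val ^ n) g := by
  classical
  haveI : Finite (End (ZMod p) V) := fin_end
  have ex : ∀ x : (End (ZMod p) V)ˣ, ∃ f, x ∈ P → Sg F x.val f := fun x => by
    by_cases a : x ∈ P
    · exact (ex_sg h.fg (h.u1 x a)).imp fun f b _ => b
    · exact ⟨0, fun b => (a b).elim⟩
  choose σ hσ using ex
  have lf := lift (k := ZMod p) (P := P.subgroupOf X)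
    (by rw [Ne, ZMod.natCast_eq_zero_iff]; exact h.syl.not_dvd_relIndex) X.subtype
    (fun x => (σ x.val : PowerSeries (End (ZMod p) V)))
    (fun x hx => by rw [constantCoeff_coe]; exact (hσ _ hx).zero)
    (fun x hx y hy => by
      rw [← coe_mul]
      exact congrArg _ ((hσ _ (mul_mem hx hy)).uniq h.fg h.dp
        ((hσ _ hx).mul (hσ _ hy) (hc _ hx _ hy).units_val)))
    (fun g x hx y hy a => by
      rw [← coe_C, ← coe_mul, ← coe_mul]
      exact congrArg _ ((hσ _ hx).conj h.fg h.dp (hσ _ hy) (congrArg (fun t : X => t.val.val) a)))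
  have ea : ∀ n < p, ev ((n : ZMod p) - 1) (σ z - aeval (σ s) g) = z.val ^ n - aeval (s.val ^ n) g := fun n hn => by
    rw [map_sub, ← aeval_algHom_apply, (hσ _ h.zP).ev n hn, (hσ _ h.sP).ev n hn]
  have T0 : ((σ z - aeval (σ s) g : (End (ZMod p) V)[X]) : PowerSeries (End (ZMod p) V)) = 0 := by
    refine head X.subtype (fun W hW => h.irr W fun g hg => hW ⟨g, hg⟩) ?_ fun N => ?_
    · have := ea 1 (Fact.out : p.Prime).one_lt
      rw [Nat.cast_one, sub_self, ev_zero, pow_one, pow_one, ← e, sub_self] at this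
      rwa [constantCoeff_coe]
    obtain ⟨φ, a, b, c⟩ := lf N
    have m : ∀ x ∈ P, (σ x : PowerSeries (End (ZMod p) V)) ∈ Submodule.span (ZMod p) (Set.range φ) := fun x hx =>
      Submodule.subset_span ⟨⟨x, h.syl.le hx⟩, c _ hx⟩
    refine ⟨φ, a, b, ?_⟩
    rw [← coeToPowerSeries.ringHom_apply, map_sub, coeToPowerSeries.ringHom_apply, coeToPowerSeries.ringHom_apply]
    refine sub_mem (m _ h.zP) ?_
    clear e ea
    induction g using Polynomial.induction_on' with
    | add q r hq hr => rw [map_add, coe_add]; exact add_mem hq hr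
    | monomial j t =>
      rw [aeval_monomial, ← Algebra.smul_def, ((hσ _ h.sP).pow j).uniq h.fg h.dp (hσ _ (pow_mem h.sP j))]
      have : ((t • σ (s ^ j) : (End (ZMod p) V)[X]) : PowerSeries (End (ZMod p) V)) =
          t • (σ (s ^ j) : PowerSeries (End (ZMod p) V)) := by
        ext1 l; simp [coeff_coe]
      rw [this]
      exact Submodule.smul_mem _ _ (m _ (pow_mem h.sP j))
  have := ea n hn
  rwa [coe_eq_zero_iff.1 T0, map_zero, eq_comm, sub_eq_zero] at this

theorem Lin.ab (h : Lin p d X P F s z) (hc : ∀ x ∈ P, ∀ y ∈ P, Commute x y) : False := by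
  have sz : Commute z.val s.val := h.sz.symm.units_val
  obtain ⟨m, md, u, u0, e⟩ := h.rs.ord h.fg (f := z.val - 1)
    ((sz.sub_left (Commute.one_left _)).sub_right (Commute.one_right _)) fun c => h.z1 (Units.ext (sub_eq_zero.1 c))
  have hN := h.rs.dg
  have m2 : 2 ≤ m := h.rs.le_of_dg h.fg md u0 (h.fg.aeval_sub hN u) (e ▸ h.z2)
  obtain ⟨n, hn, ne⟩ := ex_pow_ne m2 (md.trans_le h.dp)
  have ag : ∀ t : End (ZMod p) V, aeval t ((1 + Polynomial.X ^ m * u).comp (Polynomial.X - 1)) =
      1 + (t - 1) ^ m * aeval (t - 1) u := fun t => by simp [aeval_comp]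
  have r := E.rel h hc (g := (1 + Polynomial.X ^ m * u).comp (Polynomial.X - 1)) (by rw [ag, ← e]; abel) hn
  have hM : s.val ^ n - 1 ∈ Dg F 1 := h.u1 _ (pow_mem h.sP n)
  have cm : Commute (s.val - 1) (∑ i ∈ Finset.range n, s.val ^ i) :=
    Commute.sum_right _ _ _ fun i _ => ((Commute.refl _).sub_left (Commute.one_left _)).pow_right i
  rw [ag, ← sub_eq_iff_eq_add', ← mul_geom_sum, e] at r
  nth_rewrite 1 [← mul_geom_sum s.val] at r
  rw [cm.mul_pow, mul_assoc, mul_assoc, ← sub_eq_zero, ← mul_sub] at r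
  have a := sub_mem (sc_mul h.fg (h.fg.aeval_sub hN u) (sc_geom h.fg (h.u1 _ h.zP) n))
    (sc_mul h.fg (sc_pow h.fg (sc_geom h.fg hN n) m) (h.fg.aeval_sub hM u))
  rw [sub_sub_sub_comm, ← sub_smul] at a
  refine Nat.not_succ_le_self m (h.rs.le_of_dg h.fg md ?_ a (r ▸ zero_mem _))
  rw [mul_comm, ← sub_mul]
  exact mul_ne_zero (sub_ne_zero.2 ne.symm) u0

end CF.Mg
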