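import Cfsg.Agent.Mg.A
import Mathlib.RingTheory.Polynomial.Pochhammer

/-! Truncated binomial series `x ^ (1 + T)` of unitriangular endomorphisms. -/

set_option autoImplicit false
set_option linter.unusedSectionVars false
set_option linter.unusedVariables false

namespace CF.Mg.E

open Module Polynomial Finset

section ev
variable {k B : Type*} [Field k] [Ring B] [Algebra k B]

/-- evaluation at a scalar -/
noncomputable def ev (c : k) : B[X] →ₐ[k] B :=
  eval₂AlgHom (AlgHom.id k B) (algebraMap k B c) fun a => (Algebra.commute_algebraMap_left c a).symm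

theorem ev_eq (c : k) (f : B[X]) : ev c f = f.eval (algebraMap k B c) := rfl

theorem ev_C (c : k) (a : B) : ev c (C a) = a := by rw [ev_eq, eval_C]

theorem ev_zero (f : B[X]) : ev (0 : k) f = f.coeff 0 := by rw [ev_eq, map_zero, coeff_zero_eq_eval_zero]

theorem ev_map (c : k) (q : k[X]) : ev c (q.map (algebraMap k B)) = algebraMap k B (q.eval c) := by
  rw [ev_eq, eval_map, eval₂_at_apply]

theorem eq_zero [Fintype k] {f : B[X]} (h : ∀ l, Fintype.card k ≤ l → f.coeff l = 0) (e : ∀ c : k, ev c f = 0) :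
    f = 0 := by
  have p0 : 0 < Fintype.card k := Fintype.card_pos
  have dg : f.natDegree < Fintype.card k :=
    lt_of_le_of_lt (natDegree_le_iff_coeff_eq_zero.2 fun l hl => h l (by omega)) (Nat.sub_lt p0 one_pos)
  ext l
  rcases le_or_gt (Fintype.card k) l with a | a
  · exact h l a
  refine (forall_dual_apply_eq_zero_iff k _).1 fun φ => ?_
  have : (∑ i ∈ range (Fintype.card k), monomial i (φ (f.coeff i)) : k[X]) = 0 := by
    refine eq_zero_of_natDegree_lt_card_of_eval_eq_zero _ Function.injective_id (fun c => ?_) ?_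
    · have := congrArg φ (e c)
      rw [ev_eq, eval_eq_sum_range' dg, map_sum, map_zero] at this
      rw [eval_finsetSum, ← this]
      refine sum_congr rfl fun i _ => ?_
      rw [eval_monomial, ← map_pow, ← Algebra.commutes, ← Algebra.smul_def, map_smul, smul_eq_mul, mul_comm, id]
    · refine lt_of_le_of_lt (natDegree_sum_le_of_forall_le _ _ fun i hi => (natDegree_monomial_le _).trans ?_)
        (Nat.sub_lt p0 one_pos)
      have := mem_range.1 hi
      omega
  have := congrArg (coeff · l) this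
  simpa [coeff_monomial, a] using this

end ev

section sc
variable {k V : Type*} [Field k] [AddCommGroup V] [Module k V] {F : ℕ → Submodule k V} {d : ℕ}
  {f g : End k V} {a b : k}

theorem sc_mul (h : Fg d F) (hf : f - a • 1 ∈ Dg F 1) (hg : g - b • 1 ∈ Dg F 1) : f * g - (a * b) • 1 ∈ Dg F 1 := by
  have : f * g - (a * b) • 1 = (f - a • 1) * g + a • (g - b • 1) := by
    rw [sub_mul, smul_mul_assoc, one_mul, smul_sub, smul_smul]; abel
  rw [this]
  exact add_mem (Dg.mul0 hf (h.dg0 hg)) (Submodule.smul_mem _ _ hg)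

theorem sc_pow (h : Fg d F) (hf : f - a • 1 ∈ Dg F 1) : ∀ n : ℕ, f ^ n - (a ^ n) • 1 ∈ Dg F 1
  | 0 => by simp
  | n + 1 => by rw [pow_succ, pow_succ]; exact sc_mul h (sc_pow h hf n) hf

theorem sc_geom (h : Fg d F) (hf : f - 1 ∈ Dg F 1) : ∀ n : ℕ, ∑ i ∈ range n, f ^ i - (n : k) • 1 ∈ Dg F 1
  | 0 => by simp
  | n + 1 => by
    have := add_mem (sc_geom h hf n) (sc_pow h (a := 1) (by rwa [one_smul]) n)
    rw [one_pow] at this
    rwa [sum_range_succ, Nat.cast_succ, add_smul, add_sub_add_comm]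

end sc

variable {p d : ℕ} [Fact p.Prime] {V : Type*} [AddCommGroup V] [Module (ZMod p) V] {F : ℕ → Submodule (ZMod p) V}

/-- the polynomial `f` interpolates the powers of `x` -/
structure Sg (F : ℕ → Submodule (ZMod p) V) (x : End (ZMod p) V) (f : (End (ZMod p) V)[X]) : Prop where
  dg : ∀ l, f.coeff l ∈ Dg F l
  ev : ∀ n < p, ev ((n : ZMod p) - 1) f = x ^ n

theorem ex_sg (h : Fg d F) {x : End (ZMod p) V} (hx : x - 1 ∈ Dg F 1) : ∃ f, Sg F x f := by
  let b : ℕ → (ZMod p)[X] := fun i => C ((i.factorial : ZMod p)⁻¹) * (descPochhammer (ZMod p) i).comp (X + C 1)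
  have b1 : ∀ i, (b i).natDegree ≤ i := fun i => (natDegree_C_mul_le _ _).trans <| natDegree_comp_le.trans <| by
    rw [descPochhammer_natDegree, natDegree_X_add_C, mul_one]
  refine ⟨∑ i ∈ range p, (b i).map (algebraMap _ _) * C ((x - 1) ^ i), fun l => ?_, fun n hn => ?_⟩
  · rw [finsetSum_coeff]
    refine sum_mem fun i _ => ?_
    rw [coeff_mul_C, coeff_map, ← Algebra.smul_def]
    rcases le_or_gt l i with a | a
    · exact Submodule.smul_mem _ _ (h.mono (Dg.pow1 hx i) a)
    · rw [coeff_eq_zero_of_natDegree_lt ((b1 i).trans_lt a), zero_smul]; exact zero_mem _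
  · have := (Commute.one_right (x - 1)).add_pow n
    rw [sub_add_cancel] at this
    rw [this, map_sum, ← sum_subset (range_subset_range.2 (show n + 1 ≤ p from hn)) fun i hi hi' => ?_]
    · refine sum_congr rfl fun i hi => ?_
      have : (i.factorial : ZMod p) ≠ 0 := by
        rw [Ne, ZMod.natCast_eq_zero_iff, (Fact.out : p.Prime).dvd_factorial]
        have := mem_range.1 hi
        omega
      rw [map_mul, ev_C, ev_map, one_pow, mul_one, Algebra.commutes]
      simp [b, eval_comp, descPochhammer_eval_eq_descFactorial, Nat.descFactorial_eq_factorial_mul_choose,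
        inv_mul_cancel_left₀ this]
    · have : n < i := by simpa using hi'
      rw [map_mul, ev_map]
      simp [b, eval_comp, descPochhammer_eval_eq_descFactorial, Nat.descFactorial_of_lt this]

theorem zero_of {f : (End (ZMod p) V)[X]} (h : ∀ l, p ≤ l → f.coeff l = 0)
    (e : ∀ n < p, ev ((n : ZMod p) - 1) f = 0) : f = 0 :=
  haveI : NeZero p := ⟨(Fact.out : p.Prime).ne_zero⟩
  eq_zero (k := ZMod p) (by rwa [ZMod.card]) fun c => by
    simpa using e (c + 1).val (ZMod.val_lt _)

variable {x y u : End (ZMod p) V} {f g : (End (ZMod p) V)[X]}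

theorem Sg.conj (h : Fg d F) (dp : d ≤ p) (hf : Sg F x f) (hg : Sg F y g) (e : u * x = y * u) :
    C u * f = g * C u := by
  refine sub_eq_zero.1 (zero_of (fun l hl => ?_) fun n hn => ?_)
  · rw [coeff_sub, coeff_C_mul, coeff_mul_C, h.zero (hf.dg l) (dp.trans hl), h.zero (hg.dg l) (dp.trans hl),
      mul_zero, zero_mul, sub_zero]
  · rw [map_sub, map_mul, map_mul, ev_C, hf.ev n hn, hg.ev n hn, (SemiconjBy.pow_right e n).eq, sub_self]

theorem Sg.uniq (h : Fg d F) (dp : d ≤ p) (hf : Sg F x f) (hg : Sg F x g) : f = g := by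
  simpa using hf.conj h dp hg (u := 1) (by simp)

theorem Sg.mul (hf : Sg F x f) (hg : Sg F y g) (e : Commute x y) : Sg F (x * y) (f * g) :=
  ⟨fun l => by
    rw [coeff_mul]
    exact sum_mem fun c hc => mem_antidiagonal.1 hc ▸ Dg.mul (hf.dg _) (hg.dg _),
  fun n hn => by rw [map_mul, hf.ev n hn, hg.ev n hn, e.mul_pow]⟩

theorem Sg.one : Sg F (1 : End (ZMod p) V) 1 :=
  ⟨fun l => by
    rw [coeff_one]
    split_ifs with a
    · exact a ▸ Dg.one
    · exact zero_mem _,
  fun n hn => by rw [map_one, one_pow]⟩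

theorem Sg.pow (hf : Sg F x f) : ∀ n : ℕ, Sg F (x ^ n) (f ^ n)
  | 0 => by simpa using Sg.one
  | n + 1 => by rw [pow_succ, pow_succ]; exact (Sg.pow hf n).mul hf ((Commute.refl x).pow_left n)

theorem Sg.zero (hf : Sg F x f) : f.coeff 0 = x := by
  simpa [ev_zero] using hf.ev 1 (Fact.out : p.Prime).one_lt

theorem ex_pow_ne {m : ℕ} (h : 2 ≤ m) (h' : m < p) : ∃ n < p, (n : ZMod p) ^ m ≠ n := by
  haveI : NeZero p := ⟨(Fact.out : p.Prime).ne_zero⟩
  by_contra! c
  refine FiniteField.X_pow_card_sub_X_ne_zero (ZMod p) (p := m) h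
    (eq_zero_of_natDegree_lt_card_of_eval_eq_zero _ Function.injective_id (fun a => ?_) ?_)
  · simpa [sub_eq_zero] using c a.val (ZMod.val_lt _)
  · rwa [FiniteField.X_pow_card_sub_X_natDegree_eq _ h, ZMod.card]

end CF.Mg.E
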