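import Cfsg.Agent.Mg.A

/-! The quadratic case: kernel and image of `z - 1`. -/

set_option autoImplicit false
set_option linter.unusedSectionVars false

namespace CF.Mg
open Module Polynomial

namespace Q1
variable {k V : Type*} [Field k] [AddCommGroup V] [Module k V] {F : ℕ → Submodule k V} {d j n : ℕ} {f g y : End k V}

theorem cj (e : y * f = g * y) (q : k[X]) : y * aeval f q = aeval g q * y := by
  induction q using Polynomial.induction_on' with
  | add p q a b => rw [map_add, map_add, mul_add, add_mul, a, b]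
  | monomial n c =>
    rw [aeval_monomial, aeval_monomial, ← Algebra.smul_def, ← Algebra.smul_def, mul_smul_comm, smul_mul_assoc,
      (SemiconjBy.pow_right e n).eq]

theorem sub (a : f ∈ Dg F 0) (b : g ∈ Dg F 0) (e : f - g ∈ Dg F n) (q : k[X]) : aeval f q - aeval g q ∈ Dg F n := by
  induction q using Polynomial.induction_on' with
  | add p q a b => rw [map_add, map_add, add_sub_add_comm]; exact add_mem a b
  | monomial i c =>
    rw [aeval_monomial, aeval_monomial, ← Algebra.smul_def, ← Algebra.smul_def, ← smul_sub]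
    refine Submodule.smul_mem _ _ ?_
    induction i with
    | zero => simp
    | succ i h =>
      rw [show f ^ (i + 1) - g ^ (i + 1) = (f ^ i - g ^ i) * f + g ^ i * (f - g) by rw [pow_succ, pow_succ]; noncomm_ring]
      exact add_mem (Dg.mul0 h a) (Dg.mul0' (by simpa using Dg.pow b i) e)

theorem bin (h : Fg d F) (a : f ∈ Dg F j) (n : ℕ) : (1 + f) ^ n - 1 - (n : k) • f ∈ Dg F (j + j) := by
  induction n with
  | zero => simp
  | succ n i =>
    rw [show (1 + f) ^ (n + 1) - 1 - ((n + 1 : ℕ) : k) • f = ((1 + f) ^ n - 1 - (n : k) • f) * (1 + f) + (n : k) • (f * f) by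
      rw [pow_succ, Nat.cast_succ, add_smul, one_smul]; simp only [sub_mul, mul_add, smul_mul_assoc, one_mul, mul_one]; abel]
    exact add_mem (Dg.mul0 i (add_mem Dg.one (h.mono a j.zero_le))) (Submodule.smul_mem _ _ (Dg.mul a a))

end Q1

variable {p d : ℕ} [Fact p.Prime] {V : Type*} [AddCommGroup V] [Module (ZMod p) V] [Finite V]
  {X P : Subgroup (End (ZMod p) V)ˣ} {F : ℕ → Submodule (ZMod p) V} {s y z : (End (ZMod p) V)ˣ}

theorem Lin.sq (h : Lin p d X P F s z) (y2 : y.val - 1 ∈ Dg F 2) (e : y * s * y⁻¹ = z * s) (yz : Commute y z) :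
    ∃ m r : ℕ, m + r = d ∧ 3 ≤ m ∧ 1 ≤ r ∧ r < m ∧ (∀ v, (z.val - 1) v = 0 ↔ v ∈ F r) ∧
      (∀ w, w ∈ F m ↔ ∃ v, (z.val - 1) v = w) ∧ (s.val - 1) ^ (r - 1) * (z.val - 1) ≠ 0 := by
  have G := h.fg
  have R := h.rs
  have z3 : z.val - 1 ∈ Dg F 3 := by
    have := G.comm (by omega) le_rfl y2 R.dg
    rwa [e, mul_inv_cancel_right] at this
  obtain ⟨m, md, u, u0, a⟩ := R.ord (f := z.val - 1) G (((h.sz.symm.map (Units.coeHom _)).sub_left (.one_left _)).sub_right (.one_right _))
    fun c => h.z1 (Units.ext (sub_eq_zero.1 c))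
  have U1 := G.aeval_sub R.dg u
  have m3 := R.le_of_dg G md u0 U1 (a ▸ z3)
  have e1 : y.val * (s.val - 1) = (z.val * s.val - 1) * y.val := by
    rw [mul_sub, sub_mul, ← Units.val_mul z, ← e, ← Units.val_mul, ← Units.val_mul]; simp
  have e2 : y.val * (z.val - 1) = (z.val - 1) * y.val := ((yz.map (Units.coeHom _)).sub_right (.one_right _)).eq
  have s0 : s.val = s.val - 1 + 1 := (sub_add_cancel _ _).symm
  have z0 : z.val = z.val - 1 + 1 := (sub_add_cancel _ _).symm
  generalize s.val - 1 = N at *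
  generalize z.val - 1 = A at *
  have cU : Commute N (aeval N u) := by simpa using (Commute.all Polynomial.X u).map (aeval N)
  have hU := G.unit u0 U1
  have Am : A ∈ Dg F m := a ▸ Dg.mul0 (Dg.pow1 R.dg m) (G.dg0 U1)
  have N0 := G.mono R.dg (Nat.zero_le 1)
  have dm : d ≤ 2 * m - 1 := not_lt.1 fun c => by
    obtain ⟨n, rfl⟩ : ∃ n, m = n + 1 := ⟨m - 1, by omega⟩
    have f1 : z.val * s.val - 1 = N * (1 + N ^ n * aeval N u * (N + 1)) := by rw [z0, s0, a, pow_succ']; noncomm_ring
    have f2 : z.val * s.val - 1 - N ∈ Dg F (n + 1) := by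
      rw [show z.val * s.val - 1 - N = A * (N + 1) by rw [z0, s0]; noncomm_ring]
      exact Dg.mul0 Am (add_mem N0 Dg.one)
    have M0 : z.val * s.val - 1 ∈ Dg F 0 := by simpa using add_mem (G.mono f2 (Nat.zero_le _)) N0
    have f3 := Q1.cj e1 (Polynomial.X ^ (n + 1) * u)
    simp only [map_mul, map_pow, aeval_X] at f3
    rw [← a, e2, y.isUnit.mul_left_inj] at f3
    have f4 := Q1.sub M0 N0 f2 u
    generalize aeval (z.val * s.val - 1) u = W at f3 f4
    have E : N ^ n * aeval N u * (N + 1) ∈ Dg F n := Dg.mul0 (Dg.mul0 (Dg.pow1 R.dg n) (G.dg0 U1)) (add_mem N0 Dg.one)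
    rw [f1, ((Commute.one_right N).add_right ((((Commute.refl N).pow_right n).mul_right cU).mul_right
      ((Commute.refl N).add_right (.one_right N)))).mul_pow] at f3
    have W1 : W - u.coeff 0 • 1 ∈ Dg F 1 := by simpa using add_mem (G.mono f4 (show 1 ≤ n + 1 by omega)) U1
    have k := R.le_of_dg G (m := n + 1 + n) (n := n + 1 + (n + 1)) (c := ((n + 1 : ℕ) : ZMod p) * u.coeff 0 * u.coeff 0)
      (f := ((n + 1 : ℕ) : ZMod p) • (aeval N u * (N + 1) * W)) (by omega) (mul_ne_zero (mul_ne_zero (fun c => by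
        have := Nat.le_of_dvd (by omega) ((ZMod.natCast_eq_zero_iff _ _).1 c)
        have := h.dp
        omega) u0) u0) ?_ ?_
    · omega
    · rw [mul_assoc ((n + 1 : ℕ) : ZMod p), mul_smul, ← smul_sub]
      refine Submodule.smul_mem _ _ ?_
      rw [show aeval N u * (N + 1) * W - (u.coeff 0 * u.coeff 0) • 1 = (aeval N u - u.coeff 0 • 1) * W + aeval N u * N * W +
        u.coeff 0 • (W - u.coeff 0 • 1) by simp only [mul_add, add_mul, sub_mul, smul_sub, smul_mul_assoc, mul_one, one_mul, mul_smul]; abel]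
      exact add_mem (add_mem (Dg.mul0 U1 (G.dg0 W1)) (Dg.mul0 (Dg.mul0' (G.dg0 U1) R.dg) (G.dg0 W1))) (Submodule.smul_mem _ _ W1)
    have b := Dg.mul0 (Dg.mul (Dg.pow1 R.dg (n + 1)) (Q1.bin G E (n + 1))) (G.dg0 W1)
    have := neg_mem (add_mem (G.mono b (show n + 1 + (n + 1) ≤ _ by omega)) (Dg.mul (Dg.pow1 R.dg (n + 1)) f4))
    rw [mul_sub, mul_sub, sub_mul, sub_mul, ← f3, mul_sub, ← a] at this
    convert this using 1
    simp only [pow_add N (n + 1) n, mul_smul_comm, smul_mul_assoc, mul_assoc, mul_one]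
    abel
  refine ⟨m, d - m, by omega, m3, by omega, by omega, fun v => ?_, fun w => ⟨fun b => ?_, ?_⟩, fun c => ?_⟩
  · rw [← R.ker G (show d - m + m = d by omega), a, (cU.pow_left m).eq, End.mul_apply,
      map_eq_zero_iff _ ((End.isUnit_iff _).1 hU).injective]
  · obtain ⟨v, -, rfl⟩ := R.surj_pow G (i := 0) m w (by simpa using b)
    obtain ⟨v, rfl⟩ := ((End.isUnit_iff _).1 hU).surjective v
    exact ⟨v, by rw [a, End.mul_apply]⟩
  · rintro ⟨v, rfl⟩
    simpa using Am 0 v (G.mem0 v)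
  rw [a, ← mul_assoc, ← pow_add, hU.mul_left_eq_zero] at c
  exact R.pow_ne G (by omega) c

end CF.Mg
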