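import Cfsg.Agent.Mg.A
import Cfsg.Agent.QP.Key

/-! The quadratic case: `a b a ∈ k a` for conjugates `b` of `a = z - 1`. -/

set_option autoImplicit false

namespace CF.Mg
open Module CF.Fus CF.QP

theorem Q2.pw {R : Type*} [Ring R] {N e w : R} (c : Commute w N) (h : N * e - e * N = w) :
    ∀ j : ℕ, N ^ (j + 1) * e - e * N ^ (j + 1) = (j + 1) • (N ^ j * w)
  | 0 => by simpa using h
  | j + 1 => by
    have : N ^ (j + 1 + 1) * e - e * N ^ (j + 1 + 1) = N * (N ^ (j + 1) * e - e * N ^ (j + 1)) + (N * e - e * N) * N ^ (j + 1) := by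
      rw [pow_succ' N (j + 1)]; noncomm_ring
    rw [this, Q2.pw c h j, h, (c.pow_right _).eq, mul_smul_comm, ← mul_assoc, ← pow_succ', succ_nsmul _ (j + 1)]

theorem Q2.zp {R : Type*} [Ring R] {z : R} (h : (z - 1) * (z - 1) = 0) : ∀ j : ℕ, z ^ j = 1 + j • (z - 1)
  | 0 => by simp
  | j + 1 => by
    rw [pow_succ, Q2.zp h j, succ_nsmul, add_mul, smul_mul_assoc, show (z - 1) * z = z - 1 + (z - 1) * (z - 1) by noncomm_ring,
      h, add_zero, one_mul]
    abel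

variable {p d : ℕ} [Fact p.Prime] {V : Type*} [AddCommGroup V] [Module (ZMod p) V] [Finite V]
  {X P : Subgroup (End (ZMod p) V)ˣ} {F : ℕ → Submodule (ZMod p) V} {s y z : (End (ZMod p) V)ˣ}

theorem Lin.aba (h : Lin p d X P F s z) {m r : ℕ} (e : m + r = d) (r1 : 1 ≤ r) (rm : r < m)
    (ke : ∀ v, (z.val - 1) v = 0 ↔ v ∈ F r) (im : ∀ w, w ∈ F m ↔ ∃ v, (z.val - 1) v = w)
    (ne : (s.val - 1) ^ (r - 1) * (z.val - 1) ≠ 0)
    (cen : ∀ x ∈ P, x.val - 1 ∈ Dg F 2 → Commute x s → x ∈ Subgroup.zpowers z) {g : (End (ZMod p) V)ˣ} (hg : g ∈ X) :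
    ∃ c : ZMod p, (z.val - 1) * (g.val * (z.val - 1) * (g⁻¹).val) * (z.val - 1) = c • (z.val - 1) := by
  have := fin_end (p := p) (V := V)
  have : FiniteDimensional (ZMod p) (End (ZMod p) V) := Module.Finite.of_finite
  have z0 : ∀ {a b : End (ZMod p) V}, (∀ v ∈ F r, a v = 0) → (∀ v, b v ∈ F m) → a * b = 0 := fun a b =>
    LinearMap.ext fun v => a _ (h.fg.le (b v) rm.le)
  have a1 : ∀ v ∈ F r, (z.val - 1) v = 0 := fun v => (ke v).2
  have a2 : ∀ v, (z.val - 1) v ∈ F m := fun v => (im _).2 ⟨v, rfl⟩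
  have zp : ∀ j : ℕ, (z ^ j).val = 1 + (j : ZMod p) • (z.val - 1) := fun j => by
    rw [Units.val_pow_eq_pow_val, Q2.zp (z0 a1 a2), Nat.cast_smul_eq_nsmul]
  have ia : InA (ZMod p) X (z.val - 1) := ⟨z0 a1 a2, fun c => ⟨z ^ c.val, pow_mem (h.syl.le h.zP) _, by
    rw [zp, ZMod.natCast_zmod_val]⟩⟩
  obtain ⟨x, m1, m2⟩ := ia.key_aux (BigF.mk' (by rw [ZMod.ringChar_zmod_n]; have := h.p5; omega)
    (by rw [Nat.card_zmod]; have := h.p5; omega)) (ia.conj hg) Polynomial.X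
  rw [Polynomial.aeval_X, zz_mul_left ia.sq] at m2
  have s1 := h.rs.dg
  have s0 := h.fg.val0 s1
  have s0' := h.fg.val0 (h.fg.inv_mem le_rfl s1)
  have dg : ∀ {a : End (ZMod p) V}, (∀ v ∈ F r, a v = 0) → (∀ v, a v ∈ F m) → a ∈ Dg F 2 := fun b1 b2 j v l => by
    rcases lt_or_ge j r with t | t
    exacts [h.fg.le (b2 v) (by omega), b1 v (h.fg.le l t) ▸ zero_mem _]
  have k1 : ∀ v ∈ F r, ((z.val - 1) * (g.val * (z.val - 1) * (g⁻¹).val) * (z.val - 1)) v = 0 := fun v l => by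
    rw [End.mul_apply, a1 v l, map_zero]
  have k2 : ∀ v, ((z.val - 1) * (g.val * (z.val - 1) * (g⁻¹).val) * (z.val - 1)) v ∈ F m := fun v => by
    rw [mul_assoc]; exact a2 _
  refine h.fg.ind (Q := fun n => ∀ a : End (ZMod p) V, (∃ x ∈ X, x.val = 1 + a) → (∀ v ∈ F r, a v = 0) → (∀ v, a v ∈ F m) →
    a ∈ Dg F n → ∃ c : ZMod p, a = c • (z.val - 1)) (fun n l a _ _ _ k => ⟨0, by rw [h.fg.zero k l, zero_smul]⟩)
    (fun n _ ih a ⟨x, m1, m2⟩ b1 b2 k => ?_) 2 _ ⟨x, m1, m2⟩ k1 k2 (dg k1 k2)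
  · have c1 : ∀ v ∈ F r, (s.val * a * (s⁻¹).val) v = 0 := fun v l => by
      rw [End.mul_apply, End.mul_apply, b1 _ (s0' r v l), map_zero]
    have xi : (x⁻¹).val = 1 - a := Units.inv_eq_of_mul_eq_one_right (by
      rw [m2, show (1 + a) * (1 - a) = 1 - a * a by noncomm_ring, z0 b1 b2, sub_zero])
    have e1 : s.val * a * (s⁻¹).val - a = ((s.val - 1) * a - a * (s.val - 1)) * (s⁻¹).val := by
      rw [show (s.val - 1) * a - a * (s.val - 1) = s.val * a - a * s.val by noncomm_ring, sub_mul, mul_assoc a, Units.mul_inv, mul_one]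
    obtain ⟨c, q⟩ := ih (s.val * a * (s⁻¹).val - a) ⟨s * x * s⁻¹ * x⁻¹,
      mul_mem (mul_mem (mul_mem (h.syl.le h.sP) m1) (inv_mem (h.syl.le h.sP))) (inv_mem m1), by
        rw [Units.val_mul, Units.val_mul, Units.val_mul, xi, m2, mul_add, add_mul, mul_one, Units.mul_inv,
          show ∀ b, (1 + b) * (1 - a) = 1 + (b - a) - b * a from fun b => by noncomm_ring, z0 c1 b2, sub_zero]⟩
      (fun v l => by rw [LinearMap.sub_apply, c1 v l, b1 v l, sub_zero]) (fun v => sub_mem (s0 m _ (b2 _)) (b2 v))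
      (e1 ▸ Dg.mul0 (sub_mem (add_comm 1 n ▸ Dg.mul s1 k) (Dg.mul k s1)) s0')
    rw [e1, Units.mul_inv_eq_iff_eq_mul] at q
    have cm : Commute (z.val - 1) s.val := (h.sz.symm.map (Units.coeHom _)).sub_left (.one_left _)
    have w := Q2.pw (((cm.sub_right (.one_right _)).smul_left c).mul_left ((Commute.refl _).sub_right (.one_right _))) q (r - 1)
    rw [Nat.sub_add_cancel r1, show (s.val - 1) ^ r * a = 0 from LinearMap.ext fun v =>
      h.fg.eq0 (Dg.pow1 s1 r m _ (b2 v)) e.ge, show a * (s.val - 1) ^ r = 0 from LinearMap.ext fun v =>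
      b1 _ (by simpa using Dg.pow1 s1 r 0 v (h.fg.mem0 v)), sub_zero, ← mul_assoc, ← Nat.cast_smul_eq_nsmul (ZMod p), eq_comm,
      smul_eq_zero, Units.mul_left_eq_zero, mul_smul_comm, smul_eq_zero, ZMod.natCast_eq_zero_iff] at w
    obtain rfl : c = 0 := (w.resolve_left (Nat.not_dvd_of_pos_of_lt r1 (by have := h.dp; omega))).resolve_right ne
    have d2 : x.val - 1 ∈ Dg F 2 := by rw [m2, add_sub_cancel_left]; exact dg b1 b2
    obtain ⟨j, t⟩ := mem_powers_iff_mem_zpowers.2 (cen x (h.memP m1 (h.fg.mono d2 (by omega))) d2 (Units.ext (by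
      rw [zero_smul, zero_mul, sub_eq_zero, sub_mul, mul_sub, one_mul, mul_one, sub_left_inj] at q
      rw [Units.val_mul, Units.val_mul, m2, add_mul, mul_add, q, one_mul, mul_one])))
    exact ⟨j, add_left_cancel (m2.symm.trans (t ▸ zp j))⟩

end CF.Mg
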