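import Cfsg.Agent.Mg.A

/-! The end of the quadratic case. -/

set_option autoImplicit false
set_option linter.unusedSectionVars false

namespace CF.Mg
open Module CF.Fus CF.QP

namespace Q3

theorem rk2 {R : Type*} [Ring R] {a y : R} (aa : a * a = 0) (yy : y * y = 0) (aya : a * y * a = a) (yay : y * a * y = y) :
    (1 + a) * (1 - y) * (1 + a) * ((1 + a) * (1 - y) * (1 + a)) = 1 - 2 * (a * y + y * a) ∧
      (1 - 2 * (a * y + y * a)) * (1 - 2 * (a * y + y * a)) = 1 ∧ a * (a * y + y * a) = a ∧ (a * y + y * a) * a = a := by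
  have a1 : ∀ x, a * (a * x) = 0 := fun x => by rw [← mul_assoc, aa, zero_mul]
  have a2 : ∀ x, y * (y * x) = 0 := fun x => by rw [← mul_assoc, yy, zero_mul]
  have a3 : ∀ x, a * (y * (a * x)) = a * x := fun x => by rw [← mul_assoc, ← mul_assoc, aya]
  have a4 : ∀ x, y * (a * (y * x)) = y * x := fun x => by rw [← mul_assoc, ← mul_assoc, yay]
  rw [mul_assoc] at aya yay
  refine ⟨?_, ?_, ?_, ?_⟩ <;> simp only [two_mul, mul_add, add_mul, mul_sub, sub_mul, mul_assoc, one_mul, mul_one, aa, yy, aya, yay,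
    a1, a2, a3, a4, mul_zero, zero_mul] <;> abel

theorem pw {R : Type*} [Ring R] {z : R} (h : (z - 1) * (z - 1) = 0) : ∀ n : ℕ, z ^ n = 1 + n • (z - 1)
  | 0 => by simp
  | n + 1 => by
    have : z = 1 + (z - 1) := by abel
    rw [pow_succ, pw h n, succ_nsmul]
    nth_rw 2 [this]
    rw [mul_add, mul_one, add_mul, one_mul, smul_mul_assoc, h, smul_zero]; abel

theorem two {k E : Type*} [Field k] [Ring E] [Algebra k E] {x y : Eˣ} (a : (x.val - 1) * (x.val - 1) = 0)
    (b : (y.val - 1) * (y.val - 1) = 0) (c : (x.val - 1) * (y.val - 1) * (x.val - 1) = 0)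
    (d : (y.val - 1) * (x.val - 1) * (y.val - 1) = 0) : Unip k (Subgroup.zpowers x ⊔ Subgroup.zpowers y) := by
  have hx : x.val - 1 ∈ Submodule.span k {x.val - 1, y.val - 1, (x.val - 1) * (y.val - 1), (y.val - 1) * (x.val - 1)} :=
    Submodule.subset_span (by simp)
  have hy : y.val - 1 ∈ Submodule.span k {x.val - 1, y.val - 1, (x.val - 1) * (y.val - 1), (y.val - 1) * (x.val - 1)} :=
    Submodule.subset_span (by simp)
  have k1 : ∀ {u w : E}, u * u = 0 → w * w = 0 → u * w * u = 0 → w * u * w = 0 →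
      Submodule.span k {u, w, u * w, w * u} * Submodule.span k {u, w, u * w, w * u} ≤ Submodule.span k {u * w, w * u} ∧
      Submodule.span k {u * w, w * u} * Submodule.span k {u, w, u * w, w * u} ≤ ⊥ := fun {u w} a b c d => by
    have a1 : ∀ x, u * (u * x) = 0 := fun x => by rw [← mul_assoc, a, zero_mul]
    have a2 : ∀ x, w * (w * x) = 0 := fun x => by rw [← mul_assoc, b, zero_mul]
    have a3 : ∀ x, u * (w * (u * x)) = 0 := fun x => by rw [← mul_assoc, ← mul_assoc, c, zero_mul]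
    have a4 : ∀ x, w * (u * (w * x)) = 0 := fun x => by rw [← mul_assoc, ← mul_assoc, d, zero_mul]
    rw [mul_assoc] at c d
    constructor <;> rw [Submodule.span_mul_span, Submodule.span_le]
    · rintro _ ⟨_, rfl | rfl | rfl | rfl, _, rfl | rfl | rfl | rfl, rfl⟩ <;>
        simp only [mul_assoc, a, b, c, d, a1, a2, a3, a4, mul_zero, SetLike.mem_coe, zero_mem] <;> exact Submodule.subset_span (by simp)
    · rintro _ ⟨_, rfl | rfl, _, rfl | rfl | rfl | rfl, rfl⟩ <;>
        simp only [mul_assoc, a, b, c, d, a1, a2, a3, a4, mul_zero, SetLike.mem_coe, zero_mem]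
  obtain ⟨p, q⟩ := k1 a b c d
  have h := p.trans (Submodule.span_mono (by simp [Set.insert_subset_iff]) :
    _ ≤ Submodule.span k {x.val - 1, y.val - 1, (x.val - 1) * (y.val - 1), (y.val - 1) * (x.val - 1)})
  exact (unip_oneAdd (h := h) (hn := ⟨3, le_bot_iff.1 (by rw [pow_three']; exact (mulL p).trans q)⟩)).mono
    (sup_le (Subgroup.zpowers_le.2 hx) (Subgroup.zpowers_le.2 hy))

theorem cj {E : Type*} [Ring E] (g z : Eˣ) : (g * z * g⁻¹).val - 1 = g.val * (z.val - 1) * (g⁻¹).val := by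
  rw [mul_sub, sub_mul, mul_one, Units.mul_inv, Units.val_mul, Units.val_mul]

theorem cj3 {E : Type*} [Ring E] (g h : Eˣ) (a : E) : g.val * a * (g⁻¹).val * (h.val * a * (h⁻¹).val) * (g.val * a * (g⁻¹).val) =
    g.val * (a * ((g⁻¹ * h).val * a * ((g⁻¹ * h)⁻¹).val) * a) * (g⁻¹).val := by
  simp only [mul_inv_rev, inv_inv, Units.val_mul, mul_assoc]

end Q3

variable {p d : ℕ} [Fact p.Prime] {V : Type*} [AddCommGroup V] [Module (ZMod p) V] [Finite V]
  {X P : Subgroup (End (ZMod p) V)ˣ} {F : ℕ → Submodule (ZMod p) V} {s y z : (End (ZMod p) V)ˣ}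

theorem Lin.q3a (h : Lin p d X P F s z) (aa : (z.val - 1) * (z.val - 1) = 0)
    (k : ∀ g ∈ X, (z.val - 1) * (g.val * (z.val - 1) * (g⁻¹).val) * (z.val - 1) = 0) : False := by
  have := @fin_end p _ V _ _ _
  have zX := h.syl.le h.zP
  have sq : ∀ g : (End (ZMod p) V)ˣ, ((g * z * g⁻¹).val - 1) * ((g * z * g⁻¹).val - 1) = 0 := fun g => by
    rw [Q3.cj, mul_assoc, mul_assoc g.val, mul_assoc g.val, Units.inv_mul_cancel_left, ← mul_assoc (z.val - 1), aa, zero_mul, mul_zero]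
  have tr : ∀ g ∈ X, ∀ f ∈ X, ((g * z * g⁻¹).val - 1) * ((f * z * f⁻¹).val - 1) * ((g * z * g⁻¹).val - 1) = 0 := fun g a f b => by
    rw [Q3.cj, Q3.cj, Q3.cj3, k _ (mul_mem (inv_mem a) b), mul_zero, zero_mul]
  obtain ⟨n, e⟩ := unip_iSup (k := ZMod p) (W := {A | ∃ g ∈ X, A = Subgroup.zpowers (g * z * g⁻¹)}) (by
      rintro _ ⟨g, a, rfl⟩ _ ⟨f, b, rfl⟩ x c
      have := (Subgroup.zpowers_le.2 (mul_mem (mul_mem a zX) (inv_mem a))) c
      refine ⟨x * f, mul_mem this b, ?_⟩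
      rw [Cfsg.conjBy, MonoidHom.map_zpowers]; simp [mul_assoc]) (by
      rintro _ ⟨g, a, rfl⟩ _ ⟨f, b, rfl⟩
      exact Q3.two (sq g) (sq f) (tr g a f b) (tr f b g a))
  have m : ∀ g ∈ X, (g * z * g⁻¹).val - 1 ∈ aug (ZMod p) (⨆ A ∈ {A | ∃ g ∈ X, A = Subgroup.zpowers (g * z * g⁻¹)}, A) := fun g a =>
    mem_aug (le_iSup₂_of_le (f := fun A (_ : A ∈ {A | ∃ g ∈ X, A = Subgroup.zpowers (g * z * g⁻¹)}) => A) _ ⟨g, a, rfl⟩ le_rfl
      (Subgroup.mem_zpowers _))
  generalize aug (ZMod p) (⨆ A ∈ {A | ∃ g ∈ X, A = Subgroup.zpowers (g * z * g⁻¹)}, A) = N at e m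
  rcases h.irr (⨅ g ∈ X, LinearMap.ker ((g * z * g⁻¹).val - 1)) (fun f a v b => by
    simp only [Submodule.mem_iInf, LinearMap.mem_ker] at b ⊢
    intro g c
    have := congrArg f.val (b _ (mul_mem (inv_mem a) c))
    rw [map_zero, ← End.mul_apply, Q3.cj] at this
    rw [← End.mul_apply, Q3.cj, ← this]
    simp only [mul_inv_rev, inv_inv, Units.val_mul, mul_assoc, Units.mul_inv_cancel_left]) with c | c
  · induction n with
    | zero =>
      refine h.z1 (Units.ext ?_)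
      rw [← mul_one z.val, Units.val_one, (Submodule.eq_bot_iff _).1 e 1 (by rw [pow_zero]; exact Submodule.one_le.1 le_rfl), mul_zero]
    | succ n ih =>
      refine ih ((Submodule.eq_bot_iff _).2 fun f a => LinearMap.ext fun v => (Submodule.eq_bot_iff _).1 c _ ?_)
      simp only [Submodule.mem_iInf, LinearMap.mem_ker]
      intro g b
      have u := Submodule.mul_mem_mul (m g b) a
      rw [← pow_succ', e, Submodule.mem_bot] at u
      rw [← End.mul_apply, u, LinearMap.zero_apply]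
  · refine h.z1 (Units.ext (sub_eq_zero.1 (LinearMap.ext fun v => ?_)))
    have := c.ge (Submodule.mem_top (x := v))
    simp only [Submodule.mem_iInf, LinearMap.mem_ker] at this
    simpa using this 1 (one_mem _)

theorem Lin.q3b (h : Lin p d X P F s z) {m r : ℕ} (e : m + r = d) (m3 : 3 ≤ m) (r1 : 1 ≤ r) (rm : r < m) {t : (End (ZMod p) V)ˣ}
    {π : End (ZMod p) V} (tX : t ∈ X) (et : t.val = 1 - 2 * π) (t2 : t * t = 1) (p1 : ∀ v, π v - v ∈ F r) (p2 : ∀ v ∈ F r, π v ∈ F m)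
    (p3 : ∀ v ∈ F m, π v = v) : False := by
  have f := h.fg
  have N := h.rs.dg
  have π0 : π ∈ Dg F 0 := fun j v a => by
    rcases le_total j r with b | b
    · simpa using add_mem (f.le (p1 v) b) a
    rcases le_total j m with c | c
    · exact f.le (p2 v (f.le a b)) c
    · rwa [p3 v (f.le a c)]
  have t0 : t.val ∈ Dg F 0 := by rw [et, two_mul]; exact sub_mem Dg.one (add_mem π0 π0)
  have s0 := f.val0 N
  have si := f.val0 (f.inv_mem le_rfl N)
  have ti := inv_eq_of_mul_eq_one_right t2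
  have c2 : (-2 : ZMod p) ≠ 0 := neg_ne_zero.2 fun c => by
    have := Nat.le_of_dvd two_pos ((ZMod.natCast_eq_zero_iff 2 p).1 c)
    have := h.p5
    omega
  have eu : (t * s * t⁻¹ * s⁻¹).val - 1 = (-2 : ZMod p) • (π * (s.val - 1) - (s.val - 1) * π) * (t.val * (s⁻¹).val) := by
    have : (-2 : ZMod p) • (π * (s.val - 1) - (s.val - 1) * π) = t.val * s.val - s.val * t.val := by
      rw [et, neg_smul, two_smul, two_mul]; noncomm_ring
    rw [this, sub_mul, ti, mul_assoc s.val, ← mul_assoc t.val t.val, ← Units.val_mul t t, t2, Units.val_one, one_mul, Units.mul_inv]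
    simp only [Units.val_mul, mul_assoc]
  have uP := h.memP (mul_mem (mul_mem (mul_mem tX (h.syl.le h.sP)) (inv_mem tX)) (inv_mem (h.syl.le h.sP))) (by
    rw [eu]; exact Dg.mul0 (Submodule.smul_mem _ _ (sub_mem (Dg.mul0' π0 N) (Dg.mul0 N π0))) (Dg.mul0 t0 si))
  have sp : ∀ v, (π * (s.val - 1) - (s.val - 1) * π) v = π ((s.val - 1) v) - (s.val - 1) v - (s.val - 1) (π v - v) := fun v => by
    rw [map_sub, LinearMap.sub_apply, End.mul_apply, End.mul_apply]; abel
  rcases h.di _ uP with a | a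
  · have b := Dg.mul0 a (Dg.mul0 s0 t0)
    rw [eu, mul_assoc, mul_assoc t.val, Units.inv_mul_cancel_left, ← Units.val_mul, t2, Units.val_one, mul_one,
      Submodule.smul_mem_iff _ c2] at b
    obtain ⟨r, rfl⟩ := Nat.exists_eq_add_of_le' r1
    obtain ⟨v, v1, v2, -⟩ := f.st r (by omega)
    refine v2 (h.rs.inj r (by omega) v v1 ?_)
    have := sub_mem (sub_mem (f.le (p2 _ (N r v v1)) (by omega : r + 2 ≤ m)) (b r v v1)) (N _ _ (p1 v))
    rwa [sp, show ∀ a b c : V, a - (a - b - c) - c = b from fun a b c => by abel] at this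
  · have k : ∀ j, j + 2 ≤ d → (∀ v ∈ F j, (π * (s.val - 1) - (s.val - 1) * π) v ∈ F (j + 2)) → False := fun j b c => by
      obtain ⟨v, v1, v2, -⟩ := f.st j (by omega)
      refine v2 (a.inj j b v v1 ?_)
      rw [eu, End.mul_apply]
      exact Submodule.smul_mem _ _ (c _ (Dg.mul0 t0 si j v v1))
    rcases r1.eq_or_lt with rfl | b
    · exact k 1 (by omega) fun v c => sub_mem (f.le (p2 _ (f.le (N 1 v c) (by omega))) m3) (f.le (N _ _ (p2 v c)) (by omega))
    · exact k 0 (by omega) fun v _ => sp v ▸ sub_mem (f.le (p1 _) b) (f.le (N _ _ (p1 v)) (by omega))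

theorem Lin.fin (h : Lin p d X P F s z) {m r : ℕ} (e : m + r = d) (m3 : 3 ≤ m) (r1 : 1 ≤ r) (rm : r < m)
    (ke : ∀ v, (z.val - 1) v = 0 ↔ v ∈ F r) (im : ∀ w, w ∈ F m ↔ ∃ v, (z.val - 1) v = w)
    (aba : ∀ g ∈ X, ∃ c : ZMod p,
      (z.val - 1) * (g.val * (z.val - 1) * (g⁻¹).val) * (z.val - 1) = c • (z.val - 1)) : False := by
  have aa : (z.val - 1) * (z.val - 1) = 0 := LinearMap.ext fun v => (ke _).2 (h.fg.le ((im _).2 ⟨v, rfl⟩) rm.le)
  have zX := h.syl.le h.zP
  refine h.q3a aa fun g hg => ?_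
  obtain ⟨c, k⟩ := aba g hg
  by_contra n
  have c0 : c ≠ 0 := by rintro rfl; exact n (by rw [k, zero_smul])
  obtain ⟨c', k'⟩ := aba g⁻¹ (inv_mem hg)
  have l := Q3.cj3 g 1 (z.val - 1)
  rw [mul_one, k', inv_one, Units.val_one, one_mul, mul_one, mul_smul_comm, smul_mul_assoc] at l
  have bb : g.val * (z.val - 1) * (g⁻¹).val * (g.val * (z.val - 1) * (g⁻¹).val) = 0 := by
    rw [mul_assoc, mul_assoc g.val, mul_assoc g.val, Units.inv_mul_cancel_left, ← mul_assoc (z.val - 1), aa, zero_mul, mul_zero]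
  have y1 : (g * z ^ (-c⁻¹).val * g⁻¹).val = 1 - c⁻¹ • (g.val * (z.val - 1) * (g⁻¹).val) := by
    rw [sub_eq_iff_eq_add'.1 (Q3.cj g _), Units.val_pow_eq_pow_val, Q3.pw aa, add_sub_cancel_left, ← Nat.cast_smul_eq_nsmul (ZMod p),
      ZMod.natCast_zmod_val, mul_smul_comm, smul_mul_assoc, neg_smul, ← sub_eq_add_neg]
  generalize g.val * (z.val - 1) * (g⁻¹).val = b at *
  obtain rfl : c = c' := by
    have : c • ((z.val - 1) * b) = c' • ((z.val - 1) * b) := by rw [← smul_mul_assoc, ← k, ← mul_smul_comm, ← l]; simp only [mul_assoc]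
    exact smul_left_injective _ (fun u => n (by rw [u, zero_mul])) this
  obtain ⟨a1, a2, a3, a4⟩ := Q3.rk2 aa (y := c⁻¹ • b) (by rw [smul_mul_smul_comm, bb, smul_zero])
    (by rw [mul_smul_comm, smul_mul_assoc, k, inv_smul_smul₀ c0]) (by rw [smul_mul_assoc, smul_mul_smul_comm, l, mul_smul, inv_smul_smul₀ c0])
  have m1 := mul_mem (mul_mem zX (mul_mem (mul_mem hg (pow_mem zX (-c⁻¹).val)) (inv_mem hg))) zX
  rw [add_sub_cancel, ← y1, ← Units.val_mul, ← Units.val_mul, ← Units.val_mul] at a1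
  refine h.q3b e m3 r1 rm (mul_mem m1 m1) a1 (Units.ext (by rw [Units.val_mul, a1, a2, Units.val_one])) (fun v => (ke _).1 ?_)
    (fun v a => (im _).2 ⟨(c⁻¹ • b) v, ?_⟩) fun v a => ?_
  · rw [map_sub, ← End.mul_apply, a3, sub_self]
  · rw [LinearMap.add_apply, End.mul_apply, End.mul_apply, (ke v).2 a, map_zero, add_zero]
  · obtain ⟨u, rfl⟩ := (im v).1 a
    rw [← End.mul_apply, a4]

end CF.Mg
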