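import Cfsg.Agent.Mg.D

/-! A chief factor of the normaliser of a normal essential subgroup on which a given element acts nontrivially. -/

set_option autoImplicit false
set_option linter.unusedSectionVars false
set_option linter.unusedVariables false

namespace CF.Mg

open Cfsg Subgroup CF.Fus CF.FusC CF.Mxc Module
open scoped commutatorElement

universe u

variable {G : Type u} [Group G] {p t r i j : ℕ} {E S W : Subgroup G} {L K : ℕ → Subgroup G} {z : G}
  [Fact p.Prime] [Finite G]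

theorem MY.le_of_le (m : MY p t S L K) (a : 1 ≤ i) (b : j ≤ t + 4) (h : L i ≤ L j) : j ≤ i := by
  by_contra c
  have := card_le_of_le h
  rw [m.cl i (t + 4 - i) a (by omega), m.cl j (t + 4 - j) (by omega) (by omega),
    Nat.pow_le_pow_iff_right (Fact.out : p.Prime).one_lt] at this
  omega

theorem MY.eq_L (m : MY p t S L K) (h : W ≤ L 1) (n : S ≤ Nm W) : ∃ j, 1 ≤ j ∧ j ≤ t + 4 ∧ W = L j := by
  have hp : p.Prime := Fact.out
  have WS := h.trans m.toMX.le
  have d : W.relIndex S ∣ p ^ (t + 5) := by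
    rw [← m.card, card_eq_mul' WS]; exact Dvd.intro_left _ rfl
  obtain ⟨k, k1, k2⟩ := (Nat.dvd_prime_pow hp).1 d
  have d2 : p ^ 2 ∣ p ^ k := by
    rw [← k2, ← m.didx1, idx_mul h m.toMX.le]; exact Dvd.intro_left _ rfl
  rw [Nat.pow_dvd_pow_iff_le_right hp.one_lt] at d2
  exact ⟨k - 1, by omega, by omega, m.nrm WS n (by omega) (by rw [k2]; congr 1; omega)⟩

theorem MY.chief (m : MY p t S L K) (e : Eg p (L r) S) (r1 : 1 ≤ r) (hz : z ∈ S) (hz' : z ∉ L r) :
    ∃ a b, r ≤ a ∧ a < b ∧ b ≤ t + 4 ∧ Fr (L r) ≤ L b ∧ Nm (L r) ≤ Nm (L a) ∧ Nm (L r) ≤ Nm (L b) ∧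
      (∀ W, L b ≤ W → W ≤ L a → Nm (L r) ≤ Nm W → W = L b ∨ W = L a) ∧ z ∉ Tr (L a) (L b) := by
  classical
  have x := m.toMX
  have rt : r ≤ t + 4 := by
    by_contra c
    have : L r = ⊥ := le_bot_iff.1 ((x.anti (by omega)).trans x.bot.le)
    exact hz' (e.cen z hz (mem_Cn.2 fun y hy => by rw [this, mem_bot] at hy; simp [hy]))
  obtain ⟨n, n1, n2, fr⟩ := m.eq_L (W := Fr (L r)) (Fr_le.trans (x.anti r1)) fun g hg => norm_Fr (x.nm hg)
  have rn : r ≤ n := m.le_of_le n1 rt (fr ▸ Fr_le)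
  let I : ℕ → Prop := fun j => Nm (L r) ≤ Nm (L j)
  let C : ℕ × ℕ → Prop := fun q => r ≤ q.1 ∧ q.1 < q.2 ∧ q.2 ≤ n ∧ I q.1 ∧ I q.2 ∧ ∀ c, q.1 < c → c < q.2 → ¬ I c
  by_contra c
  have all : ∀ q, C q → z ∈ Tr (L q.1) (L q.2) := fun ⟨a, b⟩ ⟨h1, h2, h3, h4, h5, h6⟩ => by
    by_contra d
    refine c ⟨a, b, h1, h2, h3.trans n2, fr ▸ x.anti h3, h4, h5, fun W w1 w2 w3 => ?_, d⟩
    obtain ⟨j, j1, j2, rfl⟩ := m.eq_L (w2.trans (x.anti (r1.trans h1))) (x.nm.trans w3)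
    have u1 := m.le_of_le (r1.trans (h1.trans h2.le)) j2 w1
    have u2 := m.le_of_le j1 (h2.le.trans (h3.trans n2)) w2
    rcases u1.lt_or_eq with u1 | rfl
    · rcases u2.lt_or_eq with u2 | rfl
      · exact (h6 j u2 u1 w3).elim
      · exact .inr rfl
    · exact .inl rfl
  refine hz' (e.mem (O := Nm (L r) ⊓ ⨅ q : {q // C q}, Tr (L q.1.1) (L q.1.2)) inf_le_left
    (fun g hg => norm_inf (norm_Nm hg) (dnorm_iInf fun q => norm_Tr (q.2.2.2.2.1 hg) (q.2.2.2.2.2.1 hg)))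
    (fun g hg hc => ?_) hz ⟨x.nm hz, mem_iInf.2 fun q => all _ q.2⟩)
  have : ∀ b, r ≤ b → b ≤ n → I b → g ∈ Tr (L r) (L b) := fun b => by
    induction b using Nat.strong_induction_on with
    | _ b ih =>
      intro b1 b2 b3
      rcases b1.lt_or_eq with b1 | rfl
      · have s : I (Nat.findGreatest I (b - 1)) := Nat.findGreatest_spec (m := r) (by omega) le_rfl
        have s1 : r ≤ Nat.findGreatest I (b - 1) := Nat.le_findGreatest (by omega) le_rfl
        have s2 : Nat.findGreatest I (b - 1) ≤ b - 1 := Nat.findGreatest_le _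
        exact hc.tr x.pl (ih _ (by omega) s1 (by omega) s) (mem_iInf.1 hg.2 ⟨(_, b), s1, by simp only; omega, b2, s, b3,
          fun c c1 c2 => Nat.findGreatest_is_greatest c1 (by simp only at c2; omega)⟩)
      · exact mem_Tr_same hg.1
  exact hc.cent x.pl (fr ▸ this n rn le_rfl fun g hg => fr ▸ norm_Fr hg)

end CF.Mg
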