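import Cfsg.Agent.Mg.R1
import Cfsg.Agent.Mg.C
import Cfsg.Agent.Mg.E
import Cfsg.Agent.Mg.Q1
import Cfsg.Agent.Mg.Q2
import Cfsg.Agent.Mg.Q3

/-! A normal essential subgroup of a group of maximal class is not a term of the lower central series. -/

set_option autoImplicit false
set_option linter.unusedSectionVars false
set_option linter.unusedVariables false

namespace CF.Mg

open Cfsg Subgroup CF.Fus CF.FusC CF.Mxc Module
open scoped commutatorElement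

universe u

variable {G : Type u} [Group G] {p t i j k r : ℕ} {A B E H N O S W : Subgroup G} {L K : ℕ → Subgroup G}
  {g s x y z : G} [Fact p.Prime] [Finite G]

namespace R2

theorem cenK (m : MY p t S L K) (hx : x ∈ K 1) (hs : s ∈ S) (hs' : s ∉ K 1) (h1 : 1 ≤ j) (h2 : j ≤ t + 2)
    (h : ⁅x, s⁆ ∈ L (j + 1)) : x ∈ L j := by
  by_contra c
  have a : x ∈ L 1 := by_contra fun d => m.gen1 hx d hs hs' (m.anti (by omega) (comm_symm h))
  obtain ⟨i, i1, i2, i3, i4⟩ := m.lev a j c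
  exact m.kn i1 (by omega) hs hs' i3 i4 (m.anti (by omega) h)

theorem idx1 (m : MY p t S L K) : (L 1).relIndex S = p ^ 2 := by
  have := card_eq_mul' (m.le (i := 1))
  rw [m.card, m.cl 1 (t + 3) le_rfl (by omega), show t + 5 = t + 3 + 2 by omega, pow_add _ (t + 3)] at this
  exact (Nat.eq_of_mul_eq_mul_left (pow_pos (Fact.out : p.Prime).pos _) this).symm

theorem eqL (m : MY p t S L K) (h : N ≤ L 1) (hn : S ≤ Nm N) : ∃ i, 1 ≤ i ∧ N = L i := by
  have pp : p.Prime := Fact.out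
  obtain ⟨k, -, hk⟩ := (Nat.dvd_prime_pow pp).1 (m.card ▸ relIndex_dvd_card N S)
  have := relIndex_dvd_of_le_left S h
  rw [idx1 m, hk, Nat.pow_dvd_pow_iff_le_right pp.one_lt] at this
  exact ⟨k - 1, by omega, m.nrm (h.trans m.le) hn (by omega) (by rw [hk]; congr 1; omega)⟩

theorem exK (m : MY p t S L K) : ∃ y ∈ K 1, y ∉ L 1 := by
  by_contra c
  push Not at c
  have pp : p.Prime := Fact.out
  have := relIndex_dvd_of_le_left S (show K 1 ≤ L 1 from c)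
  rw [idx1 m, m.kidx le_rfl (by omega)] at this
  exact absurd (Nat.le_of_dvd pp.pos this) (not_le.2 (by nlinarith [pp.two_le]))

variable {M : Type*} [AddCommGroup M] [Module (ZMod p) M] {φ : G → M}

variable (p) in
/-- the image of `W` -/
def sub (φ : G → M) (W : Subgroup G) : Submodule (ZMod p) M :=
  AddSubgroup.toZModSubmodule p (img (fun x => Multiplicative.ofAdd (φ x)) W).toAddSubgroup'

theorem mem_sub (h : ∀ a ∈ A, ∀ b ∈ A, φ (a * b) = φ a + φ b) (hW : W ≤ A) {v : M} :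
    v ∈ sub p φ W ↔ ∃ x ∈ W, φ x = v :=
  MulOn.mem_img (f := fun x => Multiplicative.ofAdd (φ x)) (y := .ofAdd v) fun a ha b hb =>
    congrArg _ (h a (hW ha) b (hW hb))

end R2

open R2

theorem MY.lin (hp : 5 ≤ p) (m : MY p t S L K) (e : Eg p (L r) S) (r1 : 1 ≤ r) (rt : r ≤ t) (hs : s ∈ S)
    (hs' : s ∉ K 1) (hz : z ∈ K 1) (hz' : z ∉ L r) (hc : ⁅s, z⁆ ∈ L r) :
    ∃ (M : Type u) (_ : AddCommGroup M) (_ : Module (ZMod p) M) (_ : Finite M) (ρ : G → (End (ZMod p) M)ˣ) (d : ℕ)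
      (F : ℕ → Submodule (ZMod p) M), MulOn ρ S ∧ Lin p d (img ρ (Nm (L r))) (img ρ S) F (ρ s) (ρ z) ∧
        (∀ h ∈ L r, ρ h = 1) ∧ ∀ h ∈ S, (ρ h).val - 1 ∈ Dg F 2 ↔ h ∈ K 1 := by
  obtain ⟨a, b, ra, ab, bt, fr, na, nb, irr, tr⟩ := m.chief e r1 (m.kS hz) hz'
  have hK : ∀ i, 1 ≤ i → i + 2 ≤ b → K i = K 1 := fun i i1 i2 => by
    rcases (show i ≤ t + 1 ∨ i = t + 2 ∧ b = t + 4 by omega) with c | ⟨rfl, rfl⟩
    · exact m.bla i1 c
    · exact by_contra (m.exc' e r1 rt (le_bot_iff.1 (fr.trans m.bot.le)))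
  have el0 := el_Fr e.pgE
  obtain ⟨M, _, _, _, φ, ρ, f1, f2, f3, f4, f5⟩ := exists_sec (m.anti ab.le) (el0.mono fr (m.anti ra)) na nb
  have mφ : MulOn (fun x => Multiplicative.ofAdd (φ x)) (L a) := fun x hx y hy => congrArg _ (f1 x hx y hy)
  have fi : ∀ x ∈ L a, φ x⁻¹ = -φ x := fun x hx => mφ.map_inv hx
  have fz : ∀ x ∈ L a, ∀ k : ℤ, φ (x ^ k) = k • φ x := fun x hx k => mφ.map_zpow hx k
  have la : ∀ j, L (a + j) ≤ L a := fun j => m.anti (by omega)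
  have act : ∀ h ∈ Nm (L r), ∀ x ∈ L a, ((ρ h).val - 1) (φ x) = φ ⁅h, x⁆ := fun h hh x hx => by
    rw [LinearMap.sub_apply, f5 h hh x hx, End.one_apply, commutatorElement_def,
      f1 _ (conj_mem_of_norm (na hh) hx) _ (inv_mem hx), fi x hx, sub_eq_add_neg]
  let F : ℕ → Submodule (ZMod p) M := fun j => sub p φ (L (a + j))
  have mF : ∀ j v, v ∈ F j ↔ ∃ x ∈ L (a + j), φ x = v := fun j v => mem_sub f1 (la j)
  have mF' : ∀ j, a + j ≤ b → ∀ x ∈ L a, φ x ∈ F j → x ∈ L (a + j) := fun j hj x hx h => by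
    obtain ⟨y, hy, c⟩ := (mF _ _).1 h
    refine mem_of_inv_mul hy (m.anti hj ((f2 _ (mul_mem (inv_mem (la j hy)) hx)).1 ?_))
    rw [f1 _ (inv_mem (la j hy)) _ hx, fi _ (la j hy), c, neg_add_cancel]
  have one : ∀ h ∈ Nm (L r), ρ h = 1 ↔ ∀ x ∈ L a, ⁅h, x⁆ ∈ L b := fun h hh => by
    rw [Units.ext_iff, Units.val_one, ← sub_eq_zero]
    refine ⟨fun c x hx => (f2 _ (comm_mem_right (na hh) hx)).1 (by rw [← act h hh x hx, c]; rfl),
      fun c => LinearMap.ext fun v => ?_⟩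
    obtain ⟨x, hx, rfl⟩ := f3 v
    rw [act h hh x hx]; exact (f2 _ (comm_mem_right (na hh) hx)).2 (c x hx)
  have oneE : ∀ h ∈ L r, ρ h = 1 := fun h hh =>
    (one h (le_normalizer hh)).2 fun x hx => fr (el0.1 h hh x (m.anti ra hx))
  have fg : Fg (b - a) F := by
    refine ⟨eq_top_iff.2 fun v _ => (mF _ _).2 (f3 v), eq_bot_iff.2 fun v hv => ?_, fun i j c v hv => ?_,
      fun j hj => ?_⟩
    · obtain ⟨x, hx, rfl⟩ := (mF _ _).1 hv
      exact (f2 x (la _ hx)).2 (m.anti (by omega) hx)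
    · obtain ⟨x, hx, rfl⟩ := (mF _ _).1 hv
      exact (mF _ _).2 ⟨x, m.anti (by omega) hx, rfl⟩
    · have i := m.idx (r := a + j) (by omega) (by omega)
      obtain ⟨x, x1, x2⟩ := exists_of_prime i
      refine ⟨φ x, (mF _ _).2 ⟨x, x1, rfl⟩, fun c => x2 (mF' (j + 1) (by omega) x (la j x1) c), fun w hw => ?_⟩
      obtain ⟨y, hy, rfl⟩ := (mF _ _).1 hw
      rw [← sup_zpowers_eq i (m.anti (by omega)) x1 x2, mem_sup_zpowers (m.nm (m.le x1))] at hy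
      obtain ⟨l, hl, k, rfl⟩ := hy
      refine ⟨k, (mF (j + 1) _).2 ⟨l, hl, ?_⟩⟩
      rw [f1 _ (la (j + 1) hl) _ (zpow_mem (la j x1) k), fz x (la j x1), Int.cast_smul_eq_zsmul, add_sub_cancel_right]
  have u1 : ∀ h ∈ S, (ρ h).val - 1 ∈ Dg F 1 := fun h hh j v hv => by
    obtain ⟨x, hx, rfl⟩ := (mF _ _).1 hv
    rw [act h (e.nm hh) x (la j hx)]
    exact (mF _ _).2 ⟨_, comm_symm (m.c1 hx hh (by omega)), rfl⟩
  have u2 : ∀ h ∈ K 1, (ρ h).val - 1 ∈ Dg F 2 := fun h hh j v hv => by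
    rcases le_or_gt (a + j + 2) b with c | c
    · obtain ⟨x, hx, rfl⟩ := (mF _ _).1 hv
      rw [act h (e.nm (m.kS hh)) x (la j hx)]
      exact (mF _ _).2 ⟨_, comm_symm ((m.mk'.1 ((hK (a + j) (by omega) c).ge hh)).2 x hx), rfl⟩
    · rw [fg.eq0 (u1 h (m.kS hh) j v hv) (by omega)]; exact zero_mem _
  have rg : ∀ h ∈ S, h ∉ K 1 → Rg (b - a) F ((ρ h).val - 1) := fun h hh hh' => ⟨u1 h hh, fun j hj v hv c => by
    obtain ⟨x, hx, rfl⟩ := (mF _ _).1 hv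
    rw [act h (e.nm hh) x (la j hx)] at c
    refine (mF _ _).2 ⟨x, by_contra fun d => hh' ?_, rfl⟩
    exact (hK (a + j) (by omega) (by omega)).le (m.kof (by omega) hx d hh (comm_symm
      (mF' (j + 2) (by omega) _ (comm_mem_right (na (e.nm hh)) (la j hx)) c)))⟩
  have mS := f4.mono e.nm
  have z1 : ρ z ≠ 1 := fun c => tr (mem_Tr_of_comm (m.nm (m.kS hz)) (m.nm (m.kS hz)) fun x hx =>
    comm_symm ((one z (e.nm (m.kS hz))).1 c x hx))
  have d3 : 3 ≤ b - a := not_lt.1 fun c => z1 (Units.ext (sub_eq_zero.1 (fg.zero (u2 z hz) (by omega))))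
  refine ⟨M, _, _, inferInstance, ρ, b - a, F, mS, ⟨hp, ?_, fg, ?_, fun W hW => ?_, fun x hx => ?_, fun x hx => ?_,
    mem_img_of_mem hs, rg s hs hs', mem_img_of_mem (m.kS hz), z1, u2 z hz, ?_⟩, oneE, fun h hh => ⟨fun c => ?_, u2 h⟩⟩
  · by_contra c
    refine (rg s hs hs').pow_ne fg (not_le.1 c) ?_
    have i := m.kidx (r := 1) le_rfl (by omega)
    have sp : ρ s ^ p = 1 := by
      rw [← mS.map_pow hs]
      exact oneE _ (cenK m (pow_mem_of_prime (norm_of_prime m.pg m.kS i) i hs) hs hs' r1 (by omega)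
        (by rw [commutatorElement_eq_one_iff_commute.2 ((Commute.refl s).pow_left p)]; exact one_mem _))
    haveI : Nontrivial (End (ZMod p) M) := ⟨_, _, fun c => z1 (Units.ext c)⟩
    haveI : CharP (End (ZMod p) M) p := charP_of_injective_algebraMap (algebraMap (ZMod p) _).injective p
    rw [sub_pow_char_of_commute (p := p) (Commute.one_right _), ← Units.val_pow_eq_pow_val, sp, one_pow,
      Units.val_one, sub_self]
  · obtain ⟨T, t1, t2, t3⟩ := e.syl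
    have : img ρ T = img ρ S := le_antisymm (img_le_iff.2 fun y hy => by
      obtain ⟨s, hs, c⟩ := t3 y hy
      have := (one _ (Cn_le_Nm c)).2 fun x hx => by
        refine comm_symm ?_
        rw [mem_Cn_comm.1 c x (m.anti ra hx)]; exact one_mem _
      rw [f4.map_inv_mul (e.nm hs) (t1.le hy), inv_mul_eq_one] at this
      exact this ▸ mem_img_of_mem hs) (img_mono t2)
    exact this ▸ t1.img_mulOn f4
  · have mW : ∀ x, x ∈ pre (fun x => Multiplicative.ofAdd (φ x)) (L a) W.toAddSubgroup.toSubgroup ↔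
        x ∈ L a ∧ φ x ∈ W := fun x => mφ.mem_pre
    refine (irr _ (fun x hx => (mW x).2 ⟨m.anti ab.le hx, ?_⟩) pre_le fun g hg =>
      mem_normalizer_of_le (S := ⊤) le_top fun x hx => (mW _).2 ⟨conj_mem_of_norm (na hg) ((mW x).1 hx).1, ?_⟩).imp
      (fun c => eq_bot_iff.2 fun v hv => ?_) fun c => eq_top_iff.2 fun v _ => ?_
    · rw [(f2 x (m.anti ab.le hx)).2 hx]; exact zero_mem _
    · rw [← f5 g hg x ((mW x).1 hx).1]; exact hW _ (mem_img_of_mem hg) _ ((mW x).1 hx).2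
    · obtain ⟨x, hx, rfl⟩ := f3 v
      exact (f2 x hx).2 (c.le ((mW x).2 ⟨hx, hv⟩))
    · obtain ⟨x, hx, rfl⟩ := f3 v
      exact ((mW x).1 (c.ge hx)).2
  · obtain ⟨h, hh, rfl⟩ := mS.mem_img.1 hx
    exact u1 h hh
  · obtain ⟨h, hh, rfl⟩ := mS.mem_img.1 hx
    exact (em (h ∈ K 1)).imp (u2 h) (rg h hh)
  · rw [← commutatorElement_eq_one_iff_commute, ← mS.map_comm hs (m.kS hz)]; exact oneE _ hc
  · by_contra d
    exact (rg h hh d).pow_nmem fg (j := 1) (by omega) (by rwa [pow_one])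

theorem MY.main (hp : 5 ≤ p) (m : MY p t S L K) (e : Eg p (L r) S) (r1 : 1 ≤ r) (rt : r ≤ t) : False := by
  obtain ⟨s, hs, hs'⟩ := exists_of_prime (m.kidx (r := 1) le_rfl (by omega))
  obtain ⟨y, y1, y2⟩ := exK m
  rcases (show r = 1 ∨ 2 ≤ r by omega) with rfl | r2
  · obtain ⟨M, _, _, _, ρ, d, F, f1, f2, f3, -⟩ := m.lin hp e r1 rt hs hs' y1 y2
      (m.c1 (m.l0.ge hs) (m.kS y1) le_rfl)
    refine f2.ab fun x' hx' y' hy' => ?_
    obtain ⟨x, hx, rfl⟩ := f1.mem_img.1 hx'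
    obtain ⟨y, hy, rfl⟩ := f1.mem_img.1 hy'
    rw [← commutatorElement_eq_one_iff_commute, ← f1.map_comm hx hy]
    exact f3 _ (m.c1 (m.l0.ge hx) hy le_rfl)
  obtain ⟨r, rfl⟩ : ∃ n, r = n + 2 := ⟨r - 2, by omega⟩
  obtain ⟨y, y1, y2, y3⟩ : ∃ y ∈ K 1, y ∈ L r ∧ y ∉ L (r + 1) := by
    rcases r.eq_zero_or_pos with rfl | c
    · exact ⟨y, y1, m.l0.ge (m.kS y1), y2⟩
    · obtain ⟨x, x1, x2⟩ := exists_of_prime (m.idx (r := r) c (by omega))
      exact ⟨x, m.l1 c x1, x1, x2⟩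
  have z1 : ⁅y, s⁆ ∈ L (r + 1) := m.c1 y2 hs le_rfl
  have z2 : ⁅y, s⁆ ∉ L (r + 2) := fun c => y3 (cenK m y1 hs hs' (by omega) (by omega) c)
  have zS := m.le z1
  obtain ⟨M, _, _, _, ρ, d, F, f1, f2, f3, f4⟩ := m.lin hp e r1 rt hs hs' (m.l1 (by omega) z1) z2
    (comm_symm (m.c1 z1 hs le_rfl))
  obtain ⟨a, b, h1, h2, h3, h4, h5, h6, h7⟩ := f2.sq (y := ρ y) ((f4 y (m.kS y1)).2 y1)
    (by rw [f1.map_comm (m.kS y1) hs, commutatorElement_def, inv_mul_cancel_right]) (by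
      rw [← commutatorElement_eq_one_iff_commute, ← f1.map_comm (m.kS y1) zS]
      exact f3 _ (comm_symm (m.c1 z1 (m.kS y1) le_rfl)))
  refine f2.fin h1 h2 h3 h4 h5 h6 fun g hg => f2.aba h1 h3 h4 h5 h6 h7 (fun x' hx' c c' => ?_) hg
  obtain ⟨x, hx, rfl⟩ := f1.mem_img.1 hx'
  have mC : ∀ w, w ∈ pre ρ S ⊥ ↔ w ∈ S ∧ ρ w = 1 := fun w => f1.mem_pre
  obtain ⟨i, i1, i2⟩ := eqL m (N := L 1 ⊓ pre ρ S ⊥) inf_le_left fun g hg => norm_inf (m.nm hg)
    (mem_normalizer_of_le (S := ⊤) le_top fun w hw => (mC _).2 ⟨conj_mem_of_norm (le_normalizer hg) ((mC w).1 hw).1, by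
      rw [f1.map_conj hg ((mC w).1 hw).1, ((mC w).1 hw).2, mul_one, mul_inv_cancel]⟩)
  have i3 : r + 2 ≤ i := not_lt.1 fun c => f2.z1 ((mC _).1 (i2.ge (m.anti (by omega) z1)).2).2
  have x1 : x ∈ L (r + 1) := cenK m ((f4 x hx).1 c) hs hs' (by omega) (by omega) (m.anti i3 (i2.le
    ⟨m.c1 (m.l0.ge hx) hs le_rfl, (mC _).2 ⟨comm_mem_left (le_normalizer hs) hx, by
      rw [f1.map_comm hx hs]; exact commutatorElement_eq_one_iff_commute.2 c'⟩⟩))
  rw [← sup_zpowers_eq (m.idx (by omega) (by omega)) (m.anti (by omega)) z1 z2, mem_sup_zpowers (m.nm zS)] at x1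
  obtain ⟨l, hl, k, rfl⟩ := x1
  rw [f1 (m.le hl) (zpow_mem zS k), f3 l hl, one_mul, f1.map_zpow zS]
  exact zpow_mem (mem_zpowers _) k

end CF.Mg
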