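import Cfsg.Agent.Mg.R2
import Cfsg.Agent.FusC.J
import Cfsg.Agent.Fus.Pearl

/-! Normal essential subgroups in groups of maximal class. -/

set_option autoImplicit false
set_option linter.unusedSectionVars false
set_option linter.unusedVariables false

namespace CF.Mg

open Cfsg Subgroup CF.Fus CF.FusC CF.Mxc Module
open CF.Fgs2 (LC MaxC)
open scoped commutatorElement

universe u

section
variable {Ω Ω' : Type*} [Group Ω] [Group Ω'] {f : Ω → Ω'} {P : Subgroup Ω} {Q : Subgroup Ω'}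

theorem lcs_le (P : Subgroup Ω) (i : ℕ) : P.lowerCentralSeries i ≤ P := P.lowerCentralSeries_antitone (Nat.zero_le i)

theorem img_lcs (h : PIso f P Q) : ∀ i, img f (P.lowerCentralSeries i) = Q.lowerCentralSeries i
  | 0 => h.img_eq
  | i + 1 => by
    rw [Subgroup.lowerCentralSeries_succ, Subgroup.lowerCentralSeries_succ, h.mul.img_commutator (lcs_le P i) le_rfl, img_lcs h i,
      h.img_eq]

theorem mem_ucs_iff (h : PIso f P Q) : ∀ i, ∀ x ∈ P, f x ∈ ucs Q i ↔ x ∈ ucs P i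
  | 0, x, hx => by rw [ucs_zero, ucs_zero, mem_bot, mem_bot, h.eq_one_iff hx]
  | i + 1, x, hx => by
    rw [mem_ucs_succ, mem_ucs_succ]
    have c : ∀ y ∈ P, ⁅f x, f y⁆ ∈ ucs Q i ↔ ⁅x, y⁆ ∈ ucs P i := fun y hy => by
      rw [← h.mul.map_comm hx hy, mem_ucs_iff h i _ (comm_mem_left (le_normalizer hy) hx)]
    refine ⟨fun a => ⟨hx, fun y hy => (c y hy).1 (a.2 _ (h.maps hy))⟩, fun a => ⟨h.maps hx, fun y' hy' => ?_⟩⟩
    obtain ⟨y, hy, rfl⟩ := h.surj hy'
    exact (c y hy).2 (a.2 y hy)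
end

variable {G : Type u} [Group G] {p t n : ℕ} {E S : Subgroup G} {L K : ℕ → Subgroup G} [Fact p.Prime] [Finite G]

theorem idx_p (hp : 5 ≤ p) (mc : MaxC p n S) (hF : Sat (FT S) p) (hE : (FT S).IsEssential p E) (hn : S ≤ Nm E) :
    E.relIndex S = p := by
  have pp : p.Prime := Fact.out
  have eg := eg_of_ess hF hE hn
  by_cases c : (Fr E).relIndex E ≤ p ^ 3
  · obtain ⟨Γ, es⟩ := es_of_ess hF hE
    exact NS_eq_of_norm hn ▸ es.idx c
  by_contra d
  obtain ⟨j, hj⟩ := IsPGroup.iff_card.1 eg.pgE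
  have j4 : 4 ≤ j := not_lt.1 fun b => c (((Nat.le_mul_of_pos_left _ Nat.card_pos).trans
    (card_eq_mul' (Fr_le (A := E))).ge).trans (hj ▸ Nat.pow_le_pow_right pp.pos (by omega)))
  obtain ⟨k, -, hk⟩ := (Nat.dvd_prime_pow pp).1 (mc.card ▸ relIndex_dvd_card E S)
  have k2 : 2 ≤ k := (Nat.pow_le_pow_iff_right pp.one_lt).1
    (hk ▸ sq_le_idx eg.pg fun b => d (relIndex_eq_prime eg.pg eg.lt.not_ge b))
  have e := card_eq_mul' eg.lt.le
  rw [mc.card, hj, hk, ← pow_add] at e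
  have e := Nat.pow_right_injective pp.two_le e
  obtain ⟨t, rfl⟩ : ∃ t, n = t + 5 := ⟨n - 5, by omega⟩
  obtain ⟨L, K, m⟩ := exists_my mc
  obtain rfl := m.nrm (r := k - 1) eg.lt.le hn (by omega) (by rw [hk]; congr 1; omega)
  exact m.main hp eg (by omega) (by omega)

theorem MY.ucs2 (m : MY p t S L K) (mc : MaxC p (t + 5) S) : L (t + 2) = ucs S 2 :=
  eq_of_le_of_card_ge (fun x hx => mem_ucs_succ.2 ⟨m.le hx, fun y hy => mem_ucs_succ.2
    ⟨m.le (m.c1 hx hy le_rfl), fun w hw => by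
      rw [ucs_zero, ← m.bot]; exact m.c1 (m.c1 hx hy le_rfl) hw le_rfl⟩⟩)
    (by rw [m.cl (t + 2) 2 (by omega) (by omega)]; exact card_ucs_le mc (i := 1) (by omega))

theorem core (hp : 5 ≤ p) (h4 : 4 ≤ n) (mc : MaxC p n S) (hF : Sat (FT S) p) (hE : (FT S).IsEssential p E)
    (hn : S ≤ Nm E) : (∀ x ∈ S, x ∈ E ↔ ∀ y ∈ S.lowerCentralSeries 1, ⁅x, y⁆ ∈ S.lowerCentralSeries 3) ∨
      (∀ x ∈ S, x ∈ E ↔ x ∈ Cn (ucs S 2)) ∨ (n = 4 ∧ Nat.card E = p ^ 3 ∧ ¬ E ≤ Cn E) := by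
  have pp : p.Prime := Fact.out
  have eg := eg_of_ess hF hE hn
  have i := idx_p hp mc hF hE hn
  rcases (show n = 4 ∨ 5 ≤ n by omega) with rfl | h5
  · by_cases ab : E ≤ Cn E
    · have l1 : S.lowerCentralSeries 1 ≤ E := commutator_le.2 (el_of_idx eg.pg eg.lt.le i.le).1
      have l3 : S.lowerCentralSeries 3 = ⊥ := by rw [← map_LC, show LC S 3 = ⊥ from mc.bot, Subgroup.map_bot]
      refine Or.inl fun x hx => ⟨fun a y hy => ?_, fun a => by_contra fun b => ?_⟩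
      · rw [mem_Cn_comm.1 (ab (l1 hy)) x a]; exact one_mem _
      · have : S ≤ Cn (S.lowerCentralSeries 1) := le_of_prime i eg.lt.le (fun w hw => Cn_symm (l1.trans ab) hw) hx b
          (mem_Cn_comm.2 fun y hy => mem_bot.1 (comm_symm (l3 ▸ a y hy)))
        exact (maxC_iff mc.card mc.three).1 mc (le_bot_iff.1 (commutator_le.2 fun y hy w hw =>
          mem_bot.2 (mem_Cn_comm.1 (this hw) y hy)))
    · refine Or.inr (Or.inr ⟨rfl, ?_, ab⟩)
      have := card_eq_mul' eg.lt.le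
      rw [mc.card, i, pow_succ] at this
      exact (Nat.eq_of_mul_eq_mul_right pp.pos this).symm
  obtain ⟨t, rfl⟩ : ∃ t, n = t + 5 := ⟨n - 5, by omega⟩
  obtain ⟨L, K, m⟩ := exists_my mc
  rcases m.max eg i with rfl | rfl
  · refine Or.inl fun x hx => ?_
    rw [m.mk', ← m.lcs, ← m.lcs]
    exact ⟨fun a y hy => comm_symm (a.2 y hy), fun a => ⟨hx, fun y hy => comm_symm (a y hy)⟩⟩
  · refine Or.inr (Or.inl fun x hx => ?_)
    rw [m.mM, m.ucs2 mc]
    exact and_iff_right hx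

end CF.Mg
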